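import Cfsg.Prelude.Def_GeometricClasses

/-!
The standard matrices of the class six clause of S5774 (helper34): `stA`, `stB` generate the extraspecial
group of order 27, `-stS` is the involution inverting it modulo scalars, `stPhi k` are the three axes of the
quaternion group.
-/

set_option autoImplicit false

namespace Cfsg.Agent.SL3Geo34

open Matrix

variable {F : Type*} [Field F]

/-- The diagonal generator. -/
def stA (ω : F) : Matrix (Fin 3) (Fin 3) F := !![1, 0, 0; 0, ω, 0; 0, 0, ω ^ 2]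

/-- The cyclic generator `e_i ↦ e_(i+1)`. -/
def stB : Matrix (Fin 3) (Fin 3) F := !![0, 0, 1; 1, 0, 0; 0, 1, 0]

/-- The reversal `e_i ↦ e_(-i)`; `-stS` is an involution of determinant one. -/
def stS : Matrix (Fin 3) (Fin 3) F := !![1, 0, 0; 0, 0, 1; 0, 1, 0]

/-- Scaled elements of order four modulo scalars in the normaliser, with square `3 • stS`. -/
def stPhi (ω : F) : Fin 3 → Matrix (Fin 3) (Fin 3) F :=
  ![!![1, 1, 1; 1, ω, ω ^ 2; 1, ω ^ 2, ω],
    !![1, ω ^ 2, ω ^ 2; ω, ω, ω ^ 2; ω, ω ^ 2, ω],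
    !![1, ω, ω; ω ^ 2, ω, ω ^ 2; ω ^ 2, ω ^ 2, ω]]

/-- `g` is a transvection. -/
def IsTransvec (g : GL (Fin 3) F) : Prop :=
  g ≠ 1 ∧ ((g : Matrix (Fin 3) (Fin 3) F) - 1) * ((g : Matrix (Fin 3) (Fin 3) F) - 1) = 0

end Cfsg.Agent.SL3Geo34
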