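import Cfsg.Agent.SL3Geo34.Minimal
import Cfsg.Agent.SL3Geo32.Regular
import Cfsg.Agent.SL3Geo60.Integral

/-!
Clause (5) of S5774: the normaliser of a symplectic type 3-group is maximal in `SL 3 p`, `p ≡ 1 mod 3`
(helper34).
-/

set_option autoImplicit false

namespace Cfsg.Agent.SL3Geo34

open Matrix
open scoped MatrixGroups

variable {F : Type*} [Field F] {ω : F}

/-- Subspaces invariant under the standard generators are trivial. -/
theorem CubeRoot.irreducible (h : CubeRoot ω) {M : Subgroup (GL (Fin 3) F)} (hA : h.gA ∈ M)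
    (hB : gB ∈ M) (W : Submodule F (Fin 3 → F))
    (hW : ∀ g ∈ M, ∀ x ∈ W, (g : Matrix (Fin 3) (Fin 3) F) *ᵥ x ∈ W) : W = ⊥ ∨ W = ⊤ := by
  refine or_iff_not_imp_left.mpr fun hne => ?_
  obtain ⟨x, hx, hx0⟩ := (Submodule.ne_bot_iff W).mp hne
  obtain ⟨i, hi⟩ := Function.ne_iff.mp hx0
  have hrel := h.rel
  have hAx : ∀ v ∈ W, stA ω *ᵥ v ∈ W := fun v hv => h.gA_val ▸ hW _ hA v hv
  have hBx : ∀ v ∈ W, stB *ᵥ v ∈ W := fun v hv => gB_val (F := F) ▸ hW _ hB v hv
  have he : Pi.single i 1 ∈ W := by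
    have hmem : x + (ω ^ (i : ℕ)) ^ 2 • (stA ω *ᵥ x) + ω ^ (i : ℕ) • (stA ω *ᵥ (stA ω *ᵥ x)) ∈ W :=
      add_mem (add_mem hx (W.smul_mem _ (hAx _ hx))) (W.smul_mem _ (hAx _ (hAx _ hx)))
    have he : x + (ω ^ (i : ℕ)) ^ 2 • (stA ω *ᵥ x) + ω ^ (i : ℕ) • (stA ω *ᵥ (stA ω *ᵥ x)) =
        (3 * x i) • Pi.single i (1 : F) := by
      have eD : stA ω = Matrix.diagonal (fun k : Fin 3 => ω ^ (k : ℕ)) := by
        ext a b; fin_cases a <;> fin_cases b <;> simp [stA]
      ext j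
      simp only [eD, Pi.add_apply, Pi.smul_apply, smul_eq_mul, Matrix.mulVec_diagonal]
      clear hW hAx hBx hne hx hA hB
      fin_cases i <;> fin_cases j <;> simp <;> grind
    rw [he] at hmem
    have h1 := W.smul_mem (3 * x i)⁻¹ hmem
    rwa [smul_smul, inv_mul_cancel₀ (mul_ne_zero h.three hi), one_smul] at h1
  have hstep : ∀ j : Fin 3, Pi.single j (1 : F) ∈ W → Pi.single (j + 1) (1 : F) ∈ W := fun j hj => by
    have e : stB *ᵥ Pi.single j 1 = Pi.single (j + 1) (1 : F) := by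
      ext k; fin_cases j <;> fin_cases k <;> simp [stB]
    exact e ▸ hBx _ hj
  have hall : ∀ j, Pi.single j (1 : F) ∈ W := fun j => by
    have h1 := hstep _ he
    have h2 := hstep _ h1
    fin_cases i <;> fin_cases j <;> first | exact he | exact h1 | exact h2
  rw [eq_top_iff, ← (Pi.basisFun F (Fin 3)).span_eq, Submodule.span_le]
  rintro _ ⟨j, rfl⟩
  simpa using hall j

/-- The centraliser of the quaternion group has only two involutory elements of determinant one. -/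
theorem CubeRoot.eq_one_or_gZ (h : CubeRoot ω) (h2 : (2 : F) ≠ 0) {y : GL (Fin 3) F}
    (hd : (y : Matrix (Fin 3) (Fin 3) F).det = 1) (h0 : y * h.gQ 0 = h.gQ 0 * y)
    (h1 : y * h.gQ 1 = h.gQ 1 * y) (hy : y * y = 1) : y = 1 ∨ y = gZ := by
  have hz : y * gZ = gZ * y := by rw [← h.gQ_sq 0, ← mul_assoc, h0, mul_assoc, h0, ← mul_assoc]
  generalize hX : (y : Matrix (Fin 3) (Fin 3) F) = X at hd
  have hr := h.rel
  have h3 := h.three
  have ht := inv_ne_zero h.two_ne
  have eS : X * stS = stS * X := by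
    have e := congrArg Units.val hz
    rw [Units.val_mul, Units.val_mul, gZ_val, hX, mul_neg, neg_mul, neg_inj] at e
    exact e
  have eP : ∀ k, y * h.gQ k = h.gQ k * y → X * stPhi ω k = stPhi ω k * X := fun k hk => by
    have e := congrArg Units.val hk
    rw [Units.val_mul, Units.val_mul, h.gQ_val, hX, Matrix.mul_smul, Matrix.smul_mul] at e
    exact smul_right_injective _ ht e
  have e0 := eP 0 h0
  have e1 := eP 1 h1
  have esq : X * X = 1 := by rw [← hX, ← Units.val_mul, hy, Units.val_one]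
  have ec := fun {M N : Matrix (Fin 3) (Fin 3) F} (e : M = N) (i j : Fin 3) =>
    congrArg (fun M : Matrix (Fin 3) (Fin 3) F => M i j) e
  have s01 := ec eS 0 1
  have s10 := ec eS 1 0
  have s11 := ec eS 1 1
  have s12 := ec eS 1 2
  have p00 := ec e0 0 0
  have p01 := ec e0 0 1
  have q00 := ec e1 0 0
  have q01 := ec e1 0 1
  have t00 := ec esq 0 0
  have t11 := ec esq 1 1
  have t12 := ec esq 1 2
  simp [stS, stPhi, Matrix.mul_apply, Fin.sum_univ_three] at s01 s10 s11 s12 p00 p01 q00 q01 t00 t11 t12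
  rw [Matrix.det_fin_three] at hd
  have hb : X 0 1 = 0 := by grind
  have hc : X 1 0 = 0 := by grind
  have hb' : X 0 2 = 0 := by grind
  have hc' : X 2 0 = 0 := by grind
  have h22 : X 2 2 = X 1 1 := by grind
  have h21 : X 2 1 = X 1 2 := by grind
  have ha : X 0 0 = X 1 1 + X 1 2 := by grind
  have haa : X 0 0 * X 0 0 = 1 := by grind
  have hodd : X 1 1 - X 1 2 = 1 := by grind
  rcases mul_self_eq_one_iff.mp haa with e | e
  · left
    apply Units.ext
    rw [hX, Units.val_one]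
    ext i j; fin_cases i <;> fin_cases j <;> simp <;> grind
  · right
    apply Units.ext
    rw [hX, gZ_val]
    ext i j; fin_cases i <;> fin_cases j <;> simp [stS] <;> grind

/-- Clause (5) of S5774. -/
theorem symplectic_maximal [Fintype F] :
    ∀ (p : ℕ) (R : Subgroup (Matrix.GeneralLinearGroup (Fin 3) F)), p.Prime → Fintype.card F = p →
      p % 3 = 1 → Cfsg.Geo.IsLinearSymplecticTypeData 3 R →
      Cfsg.Geo.IsMaximalIn (Cfsg.Geo.specialLinear (Fin 3) F)
        (Cfsg.Geo.subgroupNormalizer R ⊓ Cfsg.Geo.specialLinear (Fin 3) F) := by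
  intro p R hp hF hp3 hR
  haveI : Fact p.Prime := ⟨hp⟩
  haveI : CharP F p := charP_of_card_eq_prime hF
  have hp2 : p ≠ 2 := fun e => by rw [e] at hp3; norm_num at hp3
  have h2 : (2 : F) ≠ 0 := Ring.two_ne_zero (by rw [ringChar.eq F p]; exact hp2)
  refine ⟨lt_of_le_not_ge inf_le_right fun hle =>
    Aschbacher.sl_not_le_symplecticNormalizer (by simp) hR (hle.trans inf_le_left), ?_⟩
  intro M hlo hhi
  obtain ⟨ω, h, g, hg⟩ := exists_frame hR h2
  have hmem : ∀ x, g * x * g⁻¹ ∈ stR h ↔ x ∈ R := fun x => by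
    rw [← hg]
    exact Subgroup.mem_map_iff_mem (MulAut.conj g).injective
  have hnorm : ∀ x, g * x * g⁻¹ ∈ Geo.subgroupNormalizer (stR h) ↔ x ∈ Geo.subgroupNormalizer R := by
    intro x
    have key : ∀ r, g * x * g⁻¹ * (g * r * g⁻¹) * (g * x * g⁻¹)⁻¹ = g * (x * r * x⁻¹) * g⁻¹ :=
      fun r => by group
    constructor
    · intro hx
      refine Subgroup.mem_normalizer_iff.mpr fun r => ?_
      rw [← hmem r, ← hmem (x * r * x⁻¹), ← key r]
      exact Subgroup.mem_normalizer_iff.mp hx _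
    · intro hx
      refine Subgroup.mem_normalizer_iff.mpr fun r => ?_
      have e : r = g * (g⁻¹ * r * g) * g⁻¹ := by group
      rw [e, hmem, key, hmem]
      exact Subgroup.mem_normalizer_iff.mp hx _
  have hsl : ∀ x, g * x * g⁻¹ ∈ Geo.specialLinear (Fin 3) F ↔ x ∈ Geo.specialLinear (Fin 3) F :=
    fun x => by
      show GeneralLinearGroup.det (g * x * g⁻¹) = 1 ↔ GeneralLinearGroup.det x = 1
      rw [map_mul, map_mul, map_inv, mul_comm (GeneralLinearGroup.det g), mul_inv_cancel_right]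
  set M' := M.map (MulAut.conj g).toMonoidHom with hM'
  have hM : ∀ x, g * x * g⁻¹ ∈ M' ↔ x ∈ M := fun x =>
    Subgroup.mem_map_iff_mem (f := (MulAut.conj g).toMonoidHom) (MulAut.conj g).injective
  have hM'SL : M' ≤ Geo.specialLinear (Fin 3) F := by
    rintro _ ⟨x, hx, rfl⟩
    exact (hsl x).mpr (hhi hx)
  have hgen : ∀ x, x ∈ Geo.subgroupNormalizer (stR h) → x ∈ Geo.specialLinear (Fin 3) F → x ∈ M' := by
    intro x h1 h2
    have e : x = g * (g⁻¹ * x * g) * g⁻¹ := by group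
    rw [e] at h1 h2 ⊢
    exact (hM _).mpr (hlo ⟨(hnorm _).mp h1, (hsl _).mp h2⟩)
  have hnR : stR h ≤ Geo.subgroupNormalizer (stR h) := Subgroup.le_normalizer
  have hA := hgen _ (hnR h.gA_mem) h.det_gA
  have hB := hgen _ (hnR h.gB_mem) det_gB
  have hZ := hgen _ h.gZ_normalizer det_gZ
  have hQ := fun k => hgen _ (h.gQ_normalizer k) (h.det_gQ k)
  have hirr := h.irreducible hA hB
  by_cases htr : ∃ t ∈ M', IsTransvec t
  · right
    obtain ⟨t, ht, htt⟩ := htr
    have hle := SL3Geo32.Regular.sl_le_of_transvec (hF ▸ hp) hirr ht htt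
    exact le_antisymm hhi fun x hx => (hM x).mp (hle ((hsl x).mpr hx))
  left
  push Not at htr
  have hωp : IsPrimitiveRoot ω 3 :=
    IsPrimitiveRoot.iff_orderOf.mpr (orderOf_eq_prime h.cube h.ne_one)
  have hndvd : ¬ p ∣ Nat.card M' :=
    SL3Geo32.Regular.not_dvd_card p hF hp3 hωp htr hA hB hZ h.gA_val gB_val gZ_val
  refine le_antisymm (le_inf ?_ hhi) hlo
  intro x hx
  refine (hnorm x).mp ?_
  have hq := h.quat h2
  let C : Subgroup (GL (Fin 3) F) := M' ⊓ Subgroup.centralizer {gZ}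
  have hmemC : ∀ c, c ∈ C ↔ c ∈ M' ∧ c * gZ = gZ * c := fun c => by
    simp [C, Subgroup.mem_centralizer_singleton_iff, eq_comm]
  have hiC : h.gQ 0 ∈ C := (hmemC _).mpr ⟨hQ 0, by rw [← h.gQ_sq 0, mul_assoc]⟩
  have hjC : h.gQ 1 ∈ C := (hmemC _).mpr ⟨hQ 1, by rw [← h.gQ_sq 1, mul_assoc]⟩
  have hcent : ∀ y ∈ C, y * h.gQ 0 = h.gQ 0 * y → y * h.gQ 1 = h.gQ 1 * y → y * y = 1 →
      y ∈ Subgroup.closure ({h.gQ 0, h.gQ 1} : Set (GL (Fin 3) F)) := by
    intro y hy h0 h1 hy2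
    rcases h.eq_one_or_gZ h2 (congrArg Units.val (hM'SL ((hmemC y).mp hy).1)) h0 h1 hy2 with rfl | rfl
    · exact one_mem _
    · rw [← h.gQ_sq 0]
      exact mul_mem (Subgroup.subset_closure (by simp)) (Subgroup.subset_closure (by simp))
  rcases hq.centralizer_cases hiC hjC (fun c hc => ((hmemC c).mp hc).2) hcent with
    hiso | ⟨y, hy, h0, h1, hyy⟩ | ⟨y, hy, q, hq', hcomm, hyy⟩
  · exact h.le_normalizer_of_isolated h2 hM'SL (fun W hW => hirr W hW) hA hB (hQ 0)
      (fun v hv hvz => hiso v ((hmemC v).mpr ⟨hv, hvz⟩)) ((hM x).mpr hx)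
  · exact (SL3Geo60.false_pauli hp hF hp2 h hndvd hA hB hQ ((hmemC y).mp hy).1 h0 h1 hyy).elim
  · obtain ⟨k, rfl⟩ : ∃ k, q = h.gQ k := by
      rcases hq' with rfl | rfl | rfl
      exacts [⟨0, rfl⟩, ⟨1, rfl⟩, ⟨2, h.gQ_01⟩]
    have hyM := ((hmemC y).mp hy).1
    rcases hyy with e | e
    · exact (SL3Geo60.false_quarter hp hF hp2 h hndvd hA hB hQ hyM k hcomm e).elim
    · refine (SL3Geo60.false_quarter hp hF hp2 h hndvd hA hB hQ (inv_mem hyM) k
        (Commute.inv_left hcomm).eq ?_).elim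
      rw [← _root_.mul_inv_rev, e, inv_inv]

end Cfsg.Agent.SL3Geo34
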