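import Cfsg.Agent.ZStar.OddComm
import Mathlib.GroupTheory.Nilpotent

/-!
Quaternion subgroups `⟨i, j⟩` of order eight: isolation of their involution, or an element outside
normalising them (helper34, for S5774).
-/

set_option autoImplicit false

namespace Cfsg.Agent.SL3Geo34

open Cfsg.Agent.Involution

variable {G : Type*} [Group G]

/-- Generators of a quaternion group of order eight with involution `z`. -/
structure Quat (z i j : G) : Prop where
  i2 : i * i = z
  j2 : j * j = z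
  z2 : z * z = 1
  z1 : z ≠ 1
  ji : j * i = z * (i * j)

/-- The eight elements. -/
def qSet (z i j : G) : Set G := {1, z, i, z * i, j, z * j, i * j, z * (i * j)}

namespace Quat

variable {z i j : G} (h : Quat z i j)
include h

theorem zi : z * i = i * z := by rw [← h.i2, mul_assoc]

theorem zj : z * j = j * z := by rw [← h.j2, mul_assoc]

theorem zz (x : G) : z * (z * x) = x := by rw [← mul_assoc, h.z2, one_mul]

theorem iz (x : G) : i * (z * x) = z * (i * x) := by rw [← mul_assoc, ← h.zi, mul_assoc]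

theorem jz (x : G) : j * (z * x) = z * (j * x) := by rw [← mul_assoc, ← h.zj, mul_assoc]

theorem ii (x : G) : i * (i * x) = z * x := by rw [← mul_assoc, h.i2]

theorem jj (x : G) : j * (j * x) = z * x := by rw [← mul_assoc, h.j2]

theorem jix (x : G) : j * (i * x) = z * (i * (j * x)) := by
  rw [← mul_assoc, h.ji, mul_assoc, mul_assoc]

theorem inv_z : z⁻¹ = z := inv_eq_of_mul_eq_one_right h.z2

theorem inv_i : i⁻¹ = z * i := inv_eq_of_mul_eq_one_right (by rw [h.iz, h.i2, h.z2])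

theorem inv_j : j⁻¹ = z * j := inv_eq_of_mul_eq_one_right (by rw [h.jz, h.j2, h.z2])

theorem mul_gen {x : G} (hx : x ∈ qSet z i j) :
    z * x ∈ qSet z i j ∧ i * x ∈ qSet z i j ∧ j * x ∈ qSet z i j := by
  simp only [qSet, Set.mem_insert_iff, Set.mem_singleton_iff] at hx ⊢
  rcases hx with rfl | rfl | rfl | rfl | rfl | rfl | rfl | rfl <;>
    refine ⟨?_, ?_, ?_⟩ <;>
      simp [mul_assoc, h.zz, h.iz, h.jz, h.ii, h.jj, h.jix, h.i2, h.j2, h.z2, ← h.zi, ← h.zj, h.ji]

theorem mem_closure {x : G} (hx : x ∈ Subgroup.closure ({i, j} : Set G)) : x ∈ qSet z i j := by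
  induction hx using Subgroup.closure_induction_left with
  | one => simp [qSet]
  | mul_left s hs y _ hy =>
    rcases hs with rfl | hs
    · exact (h.mul_gen hy).2.1
    · rw [Set.mem_singleton_iff.mp hs]; exact (h.mul_gen hy).2.2
  | inv_mul_cancel s hs y _ hy =>
    rcases hs with rfl | hs
    · rw [h.inv_i, mul_assoc]; exact (h.mul_gen (h.mul_gen hy).2.1).1
    · rw [Set.mem_singleton_iff.mp hs, h.inv_j, mul_assoc]
      exact (h.mul_gen (h.mul_gen hy).2.2).1

theorem eight {x : G} (hx : x ∈ Subgroup.closure ({i, j} : Set G)) :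
    x = 1 ∨ x = z ∨ x = i ∨ x = z * i ∨ x = j ∨ x = z * j ∨ x = i * j ∨ x = z * (i * j) := by
  simpa [qSet] using h.mem_closure hx

theorem ij2 : i * j * (i * j) = z := by
  rw [mul_assoc, h.jix, h.iz, h.ii, h.j2, h.z2, mul_one]

theorem rot : Quat z j (i * j) :=
  ⟨h.j2, h.ij2, h.z2, h.z1, by
    rw [h.jix, h.j2, h.zz, mul_assoc, h.j2]⟩

theorem rot' : Quat z (i * j) i :=
  ⟨h.ij2, h.i2, h.z2, h.z1, by rw [h.ii, mul_assoc, h.ji, h.iz, h.ii, h.zz]⟩

theorem closure_rot : Subgroup.closure ({j, i * j} : Set G) = Subgroup.closure {i, j} := by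
  refine le_antisymm ?_ ?_ <;> rw [Subgroup.closure_le] <;>
    simp only [Set.insert_subset_iff, Set.singleton_subset_iff, SetLike.mem_coe]
  · exact ⟨Subgroup.subset_closure (by simp),
      mul_mem (Subgroup.subset_closure (by simp)) (Subgroup.subset_closure (by simp))⟩
  · refine ⟨?_, Subgroup.subset_closure (by simp)⟩
    have h1 : i * j ∈ Subgroup.closure ({j, i * j} : Set G) := Subgroup.subset_closure (by simp)
    have h2 : j ∈ Subgroup.closure ({j, i * j} : Set G) := Subgroup.subset_closure (by simp)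
    simpa using mul_mem h1 (inv_mem h2)

theorem involution_eq {x : G} (hx : x ∈ Subgroup.closure ({i, j} : Set G)) (h1 : x ≠ 1)
    (h2 : x * x = 1) : x = z := by
  have hz := h.z1
  rcases h.eight hx with rfl | rfl | rfl | rfl | rfl | rfl | rfl | rfl
  · exact absurd rfl h1
  · rfl
  · rw [h.i2] at h2; exact absurd h2 hz
  · rw [mul_assoc, h.iz, h.zz, h.i2] at h2; exact absurd h2 hz
  · rw [h.j2] at h2; exact absurd h2 hz
  · rw [mul_assoc, h.jz, h.zz, h.j2] at h2; exact absurd h2 hz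
  · rw [h.ij2] at h2; exact absurd h2 hz
  · rw [mul_assoc, ← mul_assoc (i * j) z, mul_assoc i j z, ← h.zj, h.iz, mul_assoc, h.zz,
      h.ij2] at h2
    exact absurd h2 hz

theorem conj_i : j * i * j⁻¹ = i⁻¹ := by
  rw [mul_inv_eq_iff_eq_mul, h.ji, h.inv_i, mul_assoc]

theorem conj_j : i * j * i⁻¹ = j⁻¹ := by
  rw [mul_inv_eq_iff_eq_mul, h.inv_j, mul_assoc, h.ji, h.zz]

theorem axis {x : G} (hx : x ∈ Subgroup.closure ({i, j} : Set G)) (h1 : x * x = z) :
    (x = i ∨ x = i⁻¹) ∨ (x = j ∨ x = j⁻¹) ∨ (x = i * j ∨ x = (i * j)⁻¹) := by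
  have hij : (i * j)⁻¹ = z * (i * j) :=
    inv_eq_of_mul_eq_one_right (by rw [← mul_assoc, mul_assoc i j z, ← h.zj, h.iz, mul_assoc,
      h.ij2, h.z2])
  have hz1 : z ≠ 1 := h.z1
  rcases h.eight hx with e | e | e | e | e | e | e | e
  · subst e; rw [one_mul] at h1; exact absurd h1.symm hz1
  · subst e; rw [h.z2] at h1; exact absurd h1.symm hz1
  · exact Or.inl (Or.inl e)
  · exact Or.inl (Or.inr (by rw [h.inv_i]; exact e))
  · exact Or.inr (Or.inl (Or.inl e))
  · exact Or.inr (Or.inl (Or.inr (by rw [h.inv_j]; exact e)))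
  · exact Or.inr (Or.inr (Or.inl e))
  · exact Or.inr (Or.inr (Or.inr (by rw [hij]; exact e)))

/-- An element fixing the axis of `i` and moving the axis of `j` to the axis of `i j`. -/
theorem swap_case {x : G} (hn : ∀ w ∈ Subgroup.closure ({i, j} : Set G),
      x * w * x⁻¹ ∈ Subgroup.closure ({i, j} : Set G))
    (hx2 : x * x ∈ Subgroup.closure ({i, j} : Set G))
    (hi : x * i * x⁻¹ = i ∨ x * i * x⁻¹ = i⁻¹)
    (hj : x * j * x⁻¹ = i * j ∨ x * j * x⁻¹ = (i * j)⁻¹) :
    ∃ w ∈ Subgroup.closure ({i, j} : Set G),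
      (x * w) * i = i * (x * w) ∧ ((x * w) * (x * w) = i ∨ (x * w) * (x * w) = i⁻¹) := by
  have hiQ : i ∈ Subgroup.closure ({i, j} : Set G) := Subgroup.subset_closure (by simp)
  have hjQ : j ∈ Subgroup.closure ({i, j} : Set G) := Subgroup.subset_closure (by simp)
  obtain ⟨w, hw, hwi, hwj⟩ : ∃ w ∈ Subgroup.closure ({i, j} : Set G),
      (x * w) * i * (x * w)⁻¹ = i ∧
      ((x * w) * j * (x * w)⁻¹ = i * j ∨ (x * w) * j * (x * w)⁻¹ = (i * j)⁻¹) := by
    rcases hi with hi | hi
    · exact ⟨1, one_mem _, by simpa using hi, by simpa using hj⟩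
    · refine ⟨j, hjQ, ?_, by simpa [mul_assoc] using hj⟩
      calc x * j * i * (x * j)⁻¹ = x * (j * i * j⁻¹) * x⁻¹ := by group
        _ = (x * i * x⁻¹)⁻¹ := by rw [h.conj_i]; group
        _ = i := by rw [hi, inv_inv]
  refine ⟨w, hw, mul_inv_eq_iff_eq_mul.mp hwi, ?_⟩
  have hy2 : (x * w) * (x * w) ∈ Subgroup.closure ({i, j} : Set G) := by
    rw [show x * w * (x * w) = (x * w * x⁻¹) * (x * x) * w by group]
    exact mul_mem (mul_mem (hn w hw) hx2) hw
  have hne : (x * w) * (x * w) * j * ((x * w) * (x * w))⁻¹ = j⁻¹ := by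
    rw [show (x * w) * (x * w) * j * ((x * w) * (x * w))⁻¹ =
      (x * w) * ((x * w) * j * (x * w)⁻¹) * (x * w)⁻¹ by group]
    rcases hwj with e | e <;> rw [e]
    · rw [show x * w * (i * j) * (x * w)⁻¹ = (x * w * i * (x * w)⁻¹) * (x * w * j * (x * w)⁻¹) by
        group, hwi, e, h.inv_j, h.ii]
    · rw [show x * w * (i * j)⁻¹ * (x * w)⁻¹ =
        ((x * w * i * (x * w)⁻¹) * (x * w * j * (x * w)⁻¹))⁻¹ by group, hwi, e, mul_inv_rev,
        inv_inv, h.conj_j]
  have hyc : (x * w) * (x * w) * i * ((x * w) * (x * w))⁻¹ = i := by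
    rw [show (x * w) * (x * w) * i * ((x * w) * (x * w))⁻¹ =
      (x * w) * ((x * w) * i * (x * w)⁻¹) * (x * w)⁻¹ by group, hwi, hwi]
  generalize (x * w) * (x * w) = u at hy2 hne hyc ⊢
  have hz1 : z ≠ 1 := h.z1
  have hjne : j ≠ j⁻¹ := fun e => hz1 (by rw [← h.j2]; nth_rw 2 [e]; group)
  have hine : i ≠ i⁻¹ := fun e => hz1 (by rw [← h.i2]; nth_rw 2 [e]; group)
  have hjj : j * i * j⁻¹ ≠ i := fun e => hine (by rw [← h.conj_i, e])
  have hzj : z * j * z⁻¹ = j := by rw [h.zj]; group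
  rcases h.eight hy2 with rfl | rfl | rfl | rfl | rfl | rfl | rfl | rfl
  · exact absurd (by simpa using hne) hjne
  · exact absurd (hzj.symm.trans hne) hjne
  · exact Or.inl rfl
  · exact Or.inr h.inv_i.symm
  · exact absurd hyc hjj
  · refine absurd (hyc.symm.trans ?_) hine
    rw [show z * j * i * (z * j)⁻¹ = z * (j * i * j⁻¹) * z⁻¹ by group, h.conj_i, h.inv_i,
      h.inv_z, mul_assoc, mul_assoc, ← h.zi, h.zz]
  · refine absurd (hyc.symm.trans ?_) hine
    rw [show i * j * i * (i * j)⁻¹ = i * (j * i * j⁻¹) * i⁻¹ by group, h.conj_i]; group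
  · refine absurd (hyc.symm.trans ?_) hine
    rw [show z * (i * j) * i * (z * (i * j))⁻¹ = z * (i * (j * i * j⁻¹) * i⁻¹) * z⁻¹ by group,
      h.conj_i, show i * i⁻¹ * i⁻¹ = i⁻¹ by group, h.inv_i, h.inv_z, mul_assoc, mul_assoc,
      ← h.zi, h.zz]

theorem pow_four {x : G} (hx : x ∈ Subgroup.closure ({i, j} : Set G)) : x ^ 4 = 1 := by
  have hsq : x * x = 1 ∨ x * x = z := by
    rcases h.eight hx with rfl | rfl | rfl | rfl | rfl | rfl | rfl | rfl
    · exact Or.inl (mul_one _)
    · exact Or.inl h.z2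
    · exact Or.inr h.i2
    · exact Or.inr (by rw [mul_assoc, h.iz, h.zz, h.i2])
    · exact Or.inr h.j2
    · exact Or.inr (by rw [mul_assoc, h.jz, h.zz, h.j2])
    · exact Or.inr h.ij2
    · exact Or.inr (by
        rw [mul_assoc, ← mul_assoc (i * j) z, mul_assoc i j z, ← h.zj, h.iz, mul_assoc, h.zz,
          h.ij2])
  rw [show x ^ 4 = x * x * (x * x) by simp [pow_succ, mul_assoc]]
  rcases hsq with e | e <;> rw [e]
  · exact mul_one _
  · exact h.z2

/-- An outer normalising element with square inside gives a special element. -/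
theorem of_normalizing {C : Subgroup G} (hi : i ∈ C) (hj : j ∈ C)
    (hcent : ∀ y ∈ C, y * i = i * y → y * j = j * y → y * y = 1 →
      y ∈ Subgroup.closure ({i, j} : Set G))
    {x : G} (hxC : x ∈ C) (hxQ : x ∉ Subgroup.closure ({i, j} : Set G))
    (hn : ∀ w ∈ Subgroup.closure ({i, j} : Set G),
      x * w * x⁻¹ ∈ Subgroup.closure ({i, j} : Set G))
    (hx2 : x * x ∈ Subgroup.closure ({i, j} : Set G)) :
    (∃ y ∈ C, y * i = i * y ∧ y * j = j * y ∧ y * y = z) ∨
      ∃ y ∈ C, ∃ q, (q = i ∨ q = j ∨ q = i * j) ∧ y * q = q * y ∧ (y * y = q ∨ y * y = q⁻¹) := by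
  set Q := Subgroup.closure ({i, j} : Set G) with hQ
  have hQC : Q ≤ C := (Subgroup.closure_le _).mpr (by simp [Set.insert_subset_iff, hi, hj])
  have hiQ : i ∈ Q := Subgroup.subset_closure (by simp)
  have hjQ : j ∈ Q := Subgroup.subset_closure (by simp)
  have hz : ∀ w ∈ Q, z * w = w * z := fun w hw => by
    rcases h.eight hw with rfl | rfl | rfl | rfl | rfl | rfl | rfl | rfl <;>
      simp [mul_assoc, h.iz, h.jz, ← h.zi, ← h.zj, h.zz, h.z2]
  have hxz : x * z * x⁻¹ = z := by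
    have hzQ : z ∈ Q := h.i2 ▸ mul_mem hiQ hiQ
    refine h.involution_eq (hn _ hzQ) (fun e => h.z1 (conj_eq_one_iff.mp e)) ?_
    rw [show x * z * x⁻¹ * (x * z * x⁻¹) = x * (z * z) * x⁻¹ by group, h.z2]; group
  have hsq : ∀ w, w * w = z → x * w * x⁻¹ * (x * w * x⁻¹) = z := fun w hw => by
    rw [show x * w * x⁻¹ * (x * w * x⁻¹) = x * (w * w) * x⁻¹ by group, hw, hxz]
  -- a conjugate by `x * x` is trivial on axes
  have hxx : x * (x * i * x⁻¹) * x⁻¹ = i ∨ x * (x * i * x⁻¹) * x⁻¹ = i⁻¹ := by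
    rw [show x * (x * i * x⁻¹) * x⁻¹ = x * x * i * (x * x)⁻¹ by group]
    rcases h.eight hx2 with e | e | e | e | e | e | e | e <;> rw [e]
    · left; group
    · left; rw [h.zi]; group
    · left; group
    · left; rw [show z * i * i * (z * i)⁻¹ = z * i * z⁻¹ by group, h.zi]; group
    · right; exact h.conj_i
    · right
      rw [show z * j * i * (z * j)⁻¹ = z * (j * i * j⁻¹) * z⁻¹ by group, h.conj_i, hz _ (inv_mem hiQ)]
      group
    · right; rw [show i * j * i * (i * j)⁻¹ = i * (j * i * j⁻¹) * i⁻¹ by group, h.conj_i]; group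
    · right
      rw [show z * (i * j) * i * (z * (i * j))⁻¹ = z * (i * (j * i * j⁻¹) * i⁻¹) * z⁻¹ by group,
        h.conj_i, show i * i⁻¹ * i⁻¹ = i⁻¹ by group, hz _ (inv_mem hiQ)]
      group
  have finish : ∀ {a b : G} (q : G), Quat z a b → Subgroup.closure ({a, b} : Set G) = Q → q = a →
      (q = i ∨ q = j ∨ q = i * j) → (x * a * x⁻¹ = a ∨ x * a * x⁻¹ = a⁻¹) →
      (x * b * x⁻¹ = a * b ∨ x * b * x⁻¹ = (a * b)⁻¹) →
      ∃ y ∈ C, ∃ q, (q = i ∨ q = j ∨ q = i * j) ∧ y * q = q * y ∧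
        (y * y = q ∨ y * y = q⁻¹) := by
    rintro a b q hab hcl rfl hq h1 h2
    obtain ⟨w, hw, h3, h4⟩ := hab.swap_case (x := x) (by rwa [hcl]) (by rwa [hcl]) h1 h2
    rw [hcl] at hw
    exact ⟨x * w, mul_mem hxC (hQC hw), q, hq, h3, h4⟩
  rcases h.axis (hn i hiQ) (hsq i h.i2) with hI | hI | hI
  · rcases h.axis (hn j hjQ) (hsq j h.j2) with hJ | hJ | hJ
    · -- impossible: `i` and `j` go to the same axis
      exfalso
      have key : x * j * x⁻¹ = x * i * x⁻¹ ∨ x * j * x⁻¹ = x * i⁻¹ * x⁻¹ := by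
        rw [show x * i⁻¹ * x⁻¹ = (x * i * x⁻¹)⁻¹ by group]
        rcases hI with e | e <;> rw [e] <;> rcases hJ with e' | e' <;> rw [e'] <;> simp
      have hji := h.ji
      rcases key with e | e <;> replace e := mul_left_cancel (mul_right_cancel e) <;>
        rw [e] at hji <;> refine h.z1 ?_
      · rw [h.i2] at hji; exact mul_eq_right.mp (hji.symm.trans (by rfl))
      · rw [inv_mul_cancel, mul_inv_cancel, mul_one] at hji; exact hji.symm
    · -- both axes are fixed
      left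
      obtain ⟨w, hw, h1, h2⟩ : ∃ w ∈ Q, x * w * i * (x * w)⁻¹ = i ∧ x * w * j * (x * w)⁻¹ = j := by
        have a1 : x * j * i * (x * j)⁻¹ = (x * i * x⁻¹)⁻¹ := by
          rw [show x * j * i * (x * j)⁻¹ = x * (j * i * j⁻¹) * x⁻¹ by group, h.conj_i]; group
        have a2 : x * j * j * (x * j)⁻¹ = x * j * x⁻¹ := by group
        have a3 : x * i * i * (x * i)⁻¹ = x * i * x⁻¹ := by group
        have a4 : x * i * j * (x * i)⁻¹ = (x * j * x⁻¹)⁻¹ := by
          rw [show x * i * j * (x * i)⁻¹ = x * (i * j * i⁻¹) * x⁻¹ by group, h.conj_j]; group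
        have a5 : x * (i * j) * i * (x * (i * j))⁻¹ = (x * i * x⁻¹)⁻¹ := by
          rw [show x * (i * j) * i * (x * (i * j))⁻¹ = x * (i * (j * i * j⁻¹) * i⁻¹) * x⁻¹ by group,
            h.conj_i]; group
        have a6 : x * (i * j) * j * (x * (i * j))⁻¹ = (x * j * x⁻¹)⁻¹ := by
          rw [show x * (i * j) * j * (x * (i * j))⁻¹ = x * (i * j * i⁻¹) * x⁻¹ by group,
            h.conj_j]; group
        rcases hI with e | e <;> rcases hJ with e' | e'
        · exact ⟨1, one_mem _, by simpa using e, by simpa using e'⟩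
        · exact ⟨i, hiQ, a3.trans e, by rw [a4, e', inv_inv]⟩
        · exact ⟨j, hjQ, by rw [a1, e, inv_inv], a2.trans e'⟩
        · exact ⟨i * j, mul_mem hiQ hjQ, by rw [a5, e, inv_inv], by rw [a6, e', inv_inv]⟩
      replace h1 := mul_inv_eq_iff_eq_mul.mp h1
      replace h2 := mul_inv_eq_iff_eq_mul.mp h2
      have hyC : x * w ∈ C := mul_mem hxC (hQC hw)
      have hyQ : x * w ∉ Q := fun e => hxQ (by simpa using mul_mem e (inv_mem hw))
      have hy2 : x * w * (x * w) ∈ Q := by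
        rw [show x * w * (x * w) = (x * w * x⁻¹) * (x * x) * w by group]
        exact mul_mem (mul_mem (hn w hw) hx2) hw
      have c1 : (x * w * (x * w)) * i = i * (x * w * (x * w)) :=
        (Commute.mul_left (h1 : Commute (x * w) i) h1).eq
      have c2 : (x * w * (x * w)) * j = j * (x * w * (x * w)) :=
        (Commute.mul_left (h2 : Commute (x * w) j) h2).eq
      refine ⟨x * w, hyC, h1, h2, ?_⟩
      by_contra hne
      refine hyQ (hcent _ hyC h1 h2 ?_)
      generalize x * w * (x * w) = u at hy2 c1 c2 hne ⊢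
      have hne1 : i * j ≠ j * i := by
        rw [h.ji]; intro e; exact h.z1 (mul_eq_right.mp e.symm)
      have hne2 : ∀ v : G, z * v = v → False := fun v e => h.z1 (mul_eq_right.mp e)
      rcases h.eight hy2 with rfl | rfl | rfl | rfl | rfl | rfl | rfl | rfl
      · rfl
      · exact absurd rfl hne
      · exact absurd c2 hne1
      · rw [mul_assoc, h.jz] at c2; exact absurd (mul_left_cancel c2) hne1
      · exact absurd c1.symm hne1
      · rw [mul_assoc, h.iz] at c1; exact absurd (mul_left_cancel c1).symm hne1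
      · rw [mul_assoc, h.ji, h.iz, ← mul_assoc i i j] at c1
        rw [mul_assoc] at c1
        exact (hne2 _ c1).elim
      · rw [mul_assoc, h.iz, mul_assoc i j i, h.ji, h.iz, ← mul_assoc i i j, mul_assoc] at c1
        exact (hne2 _ (mul_left_cancel c1)).elim
    · exact Or.inr (finish i h rfl rfl (Or.inl rfl) hI hJ)
  · -- `i` and `j` are exchanged
    have hJ : x * j * x⁻¹ = i ∨ x * j * x⁻¹ = i⁻¹ := by
      rcases hI with e | e <;> rw [e] at hxx
      · exact hxx
      · rw [show x * j⁻¹ * x⁻¹ = (x * j * x⁻¹)⁻¹ by group, inv_eq_iff_eq_inv, inv_inj] at hxx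
        rcases hxx with r | r
        · exact Or.inr r
        · exact Or.inl r
    have hK : x * (i * j) * x⁻¹ = i * j ∨ x * (i * j) * x⁻¹ = (i * j)⁻¹ := by
      rw [show x * (i * j) * x⁻¹ = (x * i * x⁻¹) * (x * j * x⁻¹) by group]
      have hinv : (i * j)⁻¹ = z * (i * j) :=
        inv_eq_of_mul_eq_one_right (by rw [← mul_assoc, mul_assoc i j z, ← h.zj, h.iz, mul_assoc,
          h.ij2, h.z2])
      rw [hinv]
      rcases hI with e | e <;> rw [e] <;> rcases hJ with e' | e' <;> rw [e'] <;>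
        simp [h.inv_i, h.inv_j, mul_assoc, h.ji, h.iz, h.jz, h.zz]
    have hrot : (i * j) * i = j := by rw [mul_assoc, h.ji, h.iz, h.ii, h.zz]
    refine Or.inr (finish (i * j) h.rot' ?_ rfl (Or.inr (Or.inr rfl)) hK (by rw [hrot]; exact hI))
    refine le_antisymm ?_ ?_ <;> rw [Subgroup.closure_le] <;>
      simp only [Set.insert_subset_iff, Set.singleton_subset_iff, SetLike.mem_coe]
    · exact ⟨mul_mem hiQ hjQ, hiQ⟩
    · have g1 : i * j ∈ Subgroup.closure ({i * j, i} : Set G) := Subgroup.subset_closure (by simp)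
      have g2 : i ∈ Subgroup.closure ({i * j, i} : Set G) := Subgroup.subset_closure (by simp)
      exact ⟨g2, by simpa using mul_mem (inv_mem g2) g1⟩
  · -- `i` and `i j` are exchanged
    have hK : x * (i * j) * x⁻¹ = i ∨ x * (i * j) * x⁻¹ = i⁻¹ := by
      rcases hI with e | e <;> rw [e] at hxx
      · exact hxx
      · rw [show x * (i * j)⁻¹ * x⁻¹ = (x * (i * j) * x⁻¹)⁻¹ by group, inv_eq_iff_eq_inv,
          inv_inj] at hxx
        rcases hxx with r | r
        · exact Or.inr r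
        · exact Or.inl r
    have hJ : x * j * x⁻¹ = j ∨ x * j * x⁻¹ = j⁻¹ := by
      rw [show x * j * x⁻¹ = (x * i * x⁻¹)⁻¹ * (x * (i * j) * x⁻¹) by group]
      have hinv : (i * j)⁻¹ = z * (i * j) :=
        inv_eq_of_mul_eq_one_right (by rw [← mul_assoc, mul_assoc i j z, ← h.zj, h.iz, mul_assoc,
          h.ij2, h.z2])
      rcases hI with e | e <;> rw [e] <;> rcases hK with e' | e' <;> rw [e'] <;>
        simp [hinv, h.inv_i, h.inv_j, h.inv_z, mul_assoc, h.ji, h.iz, h.jz, h.zz, h.ii, h.jj]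
    have hrot : j * (i * j) = i := by rw [h.jix, h.j2, ← h.zi, h.zz]
    exact Or.inr (finish j h.rot h.closure_rot rfl (Or.inr (Or.inl rfl)) hJ (by rw [hrot]; exact hK))

/-- The three possibilities for a centraliser `C` of `z` containing the quaternion group. -/
theorem centralizer_cases [Finite G] {C : Subgroup G} (hi : i ∈ C) (hj : j ∈ C)
    (hzC : ∀ c ∈ C, c * z = z * c)
    (hcent : ∀ y ∈ C, y * i = i * y → y * j = j * y → y * y = 1 →
      y ∈ Subgroup.closure ({i, j} : Set G)) :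
    (∀ v ∈ C, v * v = 1 → v ≠ 1 → v = z) ∨
      (∃ y ∈ C, y * i = i * y ∧ y * j = j * y ∧ y * y = z) ∨
      ∃ y ∈ C, ∃ q, (q = i ∨ q = j ∨ q = i * j) ∧ y * q = q * y ∧ (y * y = q ∨ y * y = q⁻¹) := by
  classical
  haveI : Fact (Nat.Prime 2) := ⟨Nat.prime_two⟩
  set Q := Subgroup.closure ({i, j} : Set G) with hQ
  have hQC : Q ≤ C := (Subgroup.closure_le _).mpr (by simp [Set.insert_subset_iff, hi, hj])
  have hQp : IsPGroup 2 (Q.subgroupOf C) := fun g => ⟨2, Subtype.ext (Subtype.ext (by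
    simpa using h.pow_four (Subgroup.mem_subgroupOf.mp g.2)))⟩
  obtain ⟨S, hS⟩ := hQp.exists_le_sylow
  by_cases heq : (S : Subgroup C) = Q.subgroupOf C
  · left
    intro v hv hv2 hv1
    have hvp : IsPGroup 2 (Subgroup.zpowers (⟨v, hv⟩ : C)) := by
      refine IsPGroup.of_card (n := 1) ?_
      rw [Nat.card_zpowers, pow_one]
      exact orderOf_eq_prime (Subtype.ext (by simpa [pow_two] using hv2))
        fun e => hv1 (congrArg Subtype.val e)
    obtain ⟨T, hT⟩ := hvp.exists_le_sylow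
    obtain ⟨c, hc⟩ := MulAction.exists_smul_eq C S T
    have hm : (⟨v, hv⟩ : C) ∈ (c • S : Sylow 2 C) := hc ▸ hT (Subgroup.mem_zpowers _)
    obtain ⟨q, hq, hqv⟩ : ∃ q ∈ (S : Subgroup C), c * q * c⁻¹ = ⟨v, hv⟩ := by
      obtain ⟨q, hq, e⟩ := hm
      exact ⟨q, hq, by simpa [MulAut.smul_def] using e⟩
    change q ∈ (S : Subgroup C) at hq
    rw [heq, Subgroup.mem_subgroupOf] at hq
    have hv' : v = (c : G) * q * (c : G)⁻¹ := by
      have := congrArg Subtype.val hqv
      simpa [MulAut.smul_def] using this.symm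
    have hqz : (q : G) = z := h.involution_eq hq
      (fun e => hv1 (by rw [hv', e]; group))
      (by
        have e : (q : G) * q = (c : G)⁻¹ * (v * v) * c := by rw [hv']; group
        rw [e, hv2]; group)
    rw [hv', hqz, hzC _ c.2]; group
  · right
    have hlt : (Q.subgroupOf C).subgroupOf S < ⊤ := by
      refine lt_top_iff_ne_top.mpr fun e => heq (le_antisymm ?_ hS)
      exact Subgroup.subgroupOf_eq_top.mp e
    haveI := S.2.isNilpotent
    obtain ⟨x, hx, hxQ⟩ := SetLike.exists_of_lt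
      (Group.normalizerCondition_of_isNilpotent _ hlt)
    have hxS : ((x : C) : G) ∉ Q := fun e => hxQ (Subgroup.mem_subgroupOf.mpr
      (Subgroup.mem_subgroupOf.mpr e))
    have hn : ∀ w ∈ Q, ((x : C) : G) * w * ((x : C) : G)⁻¹ ∈ Q := fun w hw => by
      have hwS : (⟨w, hQC hw⟩ : C) ∈ (S : Subgroup C) := hS (Subgroup.mem_subgroupOf.mpr hw)
      have := (Subgroup.mem_normalizer_iff.mp hx (⟨⟨w, hQC hw⟩, hwS⟩ : S)).mp
        (Subgroup.mem_subgroupOf.mpr (Subgroup.mem_subgroupOf.mpr hw))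
      simpa [Subgroup.mem_subgroupOf] using this
    obtain ⟨m, hm⟩ := S.2 x
    have hm' : ((x : C) : G) ^ 2 ^ m ∈ Q := by
      have := congrArg (fun t : S => ((t : C) : G)) hm
      simp only [SubmonoidClass.coe_pow, OneMemClass.coe_one] at this
      rw [this]; exact one_mem _
    have hex : ∃ m, ((x : C) : G) ^ 2 ^ m ∈ Q := ⟨m, hm'⟩
    rcases Nat.eq_zero_or_pos (Nat.find hex) with h0 | h0
    · exact absurd (by simpa [h0] using Nat.find_spec hex) hxS
    obtain ⟨k, hk⟩ := Nat.exists_eq_add_of_lt h0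
    rw [Nat.zero_add] at hk
    have hspec := Nat.find_spec hex
    rw [hk, pow_succ, pow_mul, pow_two] at hspec
    refine h.of_normalizing hi hj hcent (pow_mem (x : C).2 _)
      (Nat.find_min hex (by omega : k < Nat.find hex)) (fun w hw => ?_) hspec
    clear hspec
    induction 2 ^ k generalizing w with
    | zero => simpa using hw
    | succ n ih =>
      rw [pow_succ, show ∀ a b : G, a * b * w * (a * b)⁻¹ = a * (b * w * b⁻¹) * a⁻¹ from
        fun a b => by group]
      exact ih _ (hn w hw)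

end Quat

end Cfsg.Agent.SL3Geo34
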