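import Cfsg.Agent.SL3Geo34.Std
import Cfsg.Agent.SL3Geo34.Quat
import Cfsg.Agent.Aschbacher.Heisenberg
import Cfsg.Agent.Aschbacher.Composite.Six

/-!
A group of the sixth class in dimension three is conjugate to the standard one, which is normalised by an
involution and three elements of order four forming a quaternion group (helper34, for S5774).
-/

set_option autoImplicit false

namespace Cfsg.Agent.SL3Geo34

open Matrix
open scoped MatrixGroups commutatorElement

variable {F : Type*} [Field F]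

/-- The hypotheses on the cube root of unity. -/
structure CubeRoot (ω : F) : Prop where
  rel : ω ^ 2 + ω + 1 = 0
  three : (3 : F) ≠ 0

namespace CubeRoot

variable {ω : F} (h : CubeRoot ω)
include h

theorem cube : ω ^ 3 = 1 := by linear_combination (ω - 1) * h.rel

theorem ne_zero : ω ≠ 0 := fun e => by have := h.cube; simp [e] at this

theorem ne_one : ω ≠ 1 := fun e => h.three (by linear_combination h.rel - (ω + 2) * e)

theorem two_ne : 2 * ω + 1 ≠ 0 := fun e => h.three (by linear_combination 4 * h.rel - (2 * ω + 1) * e)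

theorem det_stA : (stA ω).det = 1 := by
  simp [stA, Matrix.det_fin_three]
  linear_combination h.cube

theorem det_stPhi (k : Fin 3) : ((2 * ω + 1)⁻¹ • stPhi ω k).det = 1 := by
  rw [Matrix.det_smul, Fintype.card_fin, inv_pow, inv_mul_eq_one₀ (pow_ne_zero 3 h.two_ne)]
  have := h.rel
  fin_cases k <;> simp [stPhi, Matrix.det_fin_three] <;> grind

/-- The diagonal generator in GL. -/
def gA : GL (Fin 3) F :=
  GeneralLinearGroup.mkOfDetNeZero (stA ω) (by rw [h.det_stA]; exact one_ne_zero)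

/-- The quaternion generators in GL. -/
def gQ (k : Fin 3) : GL (Fin 3) F :=
  GeneralLinearGroup.mkOfDetNeZero ((2 * ω + 1)⁻¹ • stPhi ω k) (by rw [h.det_stPhi]; exact one_ne_zero)

theorem gA_val : (h.gA : Matrix (Fin 3) (Fin 3) F) = stA ω := rfl

theorem gQ_val (k : Fin 3) :
    (h.gQ k : Matrix (Fin 3) (Fin 3) F) = (2 * ω + 1)⁻¹ • stPhi ω k := rfl

end CubeRoot

theorem det_stB : (stB : Matrix (Fin 3) (Fin 3) F).det = 1 := by simp [stB, Matrix.det_fin_three]

theorem det_neg_stS : (-stS : Matrix (Fin 3) (Fin 3) F).det = 1 := by simp [stS, Matrix.det_fin_three]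

/-- The cyclic generator in GL. -/
def gB : GL (Fin 3) F :=
  GeneralLinearGroup.mkOfDetNeZero stB (by rw [det_stB]; exact one_ne_zero)

/-- The involution in GL. -/
def gZ : GL (Fin 3) F :=
  GeneralLinearGroup.mkOfDetNeZero (-stS) (by rw [det_neg_stS]; exact one_ne_zero)

theorem gB_val : ((gB : GL (Fin 3) F) : Matrix (Fin 3) (Fin 3) F) = stB := rfl

theorem gZ_val : ((gZ : GL (Fin 3) F) : Matrix (Fin 3) (Fin 3) F) = -stS := rfl

/-- The exponent of the scalar in `q A q⁻¹ = w^a B² A^a q`. -/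
def expB : Fin 3 → ℕ × ℕ × ℕ := ![(0, 0, 1), (2, 2, 2), (1, 1, 2)]

namespace CubeRoot

variable {ω : F} (h : CubeRoot ω)
include h

theorem rel_BA : stB * stA ω = ω ^ 2 • (stA ω * stB) := by
  have := h.rel
  ext i j; fin_cases i <;> fin_cases j <;>
    simp [stA, stB, Matrix.mul_apply, Fin.sum_univ_three, pow_two] <;> grind

theorem rel_phiA (k : Fin 3) :
    stPhi ω k * stA ω = ω ^ (k : ℕ) • (stB ^ 2 * stA ω ^ (k : ℕ) * stPhi ω k) := by
  have := h.rel
  fin_cases k <;> ext i j <;> fin_cases i <;> fin_cases j <;>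
    simp [stA, stB, stPhi, pow_two, Matrix.mul_apply, Fin.sum_univ_three] <;> grind

theorem rel_phiB (k : Fin 3) :
    stPhi ω k * stB =
      ω ^ (expB k).1 • (stB ^ (expB k).2.1 * stA ω ^ (expB k).2.2 * stPhi ω k) := by
  have := h.rel
  fin_cases k <;> ext i j <;> fin_cases i <;> fin_cases j <;>
    simp [expB, stA, stB, stPhi, pow_two, Matrix.mul_apply, Fin.sum_univ_three] <;> grind

theorem phi_sq (k : Fin 3) : stPhi ω k * stPhi ω k = (3 : F) • stS := by
  have := h.rel
  fin_cases k <;> ext i j <;> fin_cases i <;> fin_cases j <;>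
    simp [stS, stPhi, Matrix.mul_apply, Fin.sum_univ_three] <;> grind

theorem phi_mul : stPhi ω 0 * stPhi ω 1 = (2 * ω + 1) • stPhi ω 2 ∧
    stPhi ω 1 * stPhi ω 0 = (-(2 * ω + 1)) • (stS * stPhi ω 2) := by
  have := h.rel
  constructor <;> ext i j <;> fin_cases i <;> fin_cases j <;>
    simp [stS, stPhi, Matrix.mul_apply, Fin.sum_univ_three] <;> grind

theorem rel_SA : stS * stA ω * stS = stA ω ^ 2 := by
  have := h.rel
  ext i j; fin_cases i <;> fin_cases j <;>
    simp [stA, stS, pow_two, Matrix.mul_apply, Fin.sum_univ_three] <;> grind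

theorem cube_A : stA ω ^ 3 = 1 := by
  have := h.rel
  ext i j; fin_cases i <;> fin_cases j <;>
    simp [stA, pow_succ, Matrix.mul_apply, Fin.sum_univ_three] <;> grind

end CubeRoot

theorem rel_SB : stS * stB * stS = (stB ^ 2 : Matrix (Fin 3) (Fin 3) F) := by
  ext i j; fin_cases i <;> fin_cases j <;>
    simp [stB, stS, pow_two, Matrix.mul_apply, Fin.sum_univ_three]

theorem sq_S : stS * stS = (1 : Matrix (Fin 3) (Fin 3) F) := by
  ext i j; fin_cases i <;> fin_cases j <;> simp [stS, Matrix.mul_apply, Fin.sum_univ_three]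

theorem cube_B : stB ^ 3 = (1 : Matrix (Fin 3) (Fin 3) F) := by
  ext i j; fin_cases i <;> fin_cases j <;>
    simp [stB, pow_succ, Matrix.mul_apply, Fin.sum_univ_three]

theorem gB_cube : (gB : GL (Fin 3) F) ^ 3 = 1 :=
  Units.ext (by rw [Units.val_pow_eq_pow_val, gB_val, cube_B, Units.val_one])

theorem gZ_sq : (gZ : GL (Fin 3) F) * gZ = 1 :=
  Units.ext (by rw [Units.val_mul, gZ_val, neg_mul_neg, sq_S, Units.val_one])

theorem gB_ne : (gB : GL (Fin 3) F) ≠ 1 := fun e => by
  simpa [gB_val, stB] using congrArg (fun u : GL (Fin 3) F => (u : Matrix (Fin 3) (Fin 3) F) 0 0) e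

/-- The scalar commutator. -/
def gW {ω : F} (h : CubeRoot ω) : GL (Fin 3) F := ⁅h.gA, gB⁆

namespace CubeRoot

variable {ω : F} (h : CubeRoot ω)
include h

theorem gA_cube : h.gA ^ 3 = 1 :=
  Units.ext (by rw [Units.val_pow_eq_pow_val, h.gA_val, h.cube_A, Units.val_one])

theorem gW_val : (gW h : Matrix (Fin 3) (Fin 3) F) = ω • 1 := by
  have e : gW h = h.gA * gB * (gB * h.gA)⁻¹ := by rw [gW, commutatorElement_def]; group
  have e2 : ((gB * h.gA : GL (Fin 3) F) : Matrix (Fin 3) (Fin 3) F) =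
      ω ^ 2 • ((h.gA * gB : GL (Fin 3) F) : Matrix (Fin 3) (Fin 3) F) := by
    rw [Units.val_mul, Units.val_mul, h.gA_val, gB_val, h.rel_BA]
  rw [e, Units.val_mul]
  have e3 : ((h.gA * gB : GL (Fin 3) F) : Matrix (Fin 3) (Fin 3) F) =
      ω • ((gB * h.gA : GL (Fin 3) F) : Matrix (Fin 3) (Fin 3) F) := by
    rw [e2, smul_smul, show ω * ω ^ 2 = 1 by linear_combination h.cube, one_smul]
  rw [e3, Matrix.smul_mul, Units.mul_inv]

theorem gW_pow_val (n : ℕ) : ((gW h ^ n : GL (Fin 3) F) : Matrix (Fin 3) (Fin 3) F) = ω ^ n • 1 := by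
  rw [Units.val_pow_eq_pow_val, h.gW_val, _root_.smul_pow, one_pow]

theorem gW_cube : gW h ^ 3 = 1 :=
  Units.ext (by rw [h.gW_pow_val, h.cube, one_smul, Units.val_one])

theorem gW_ne : gW h ≠ 1 := fun e => by
  have := congrArg (fun u : GL (Fin 3) F => (u : Matrix (Fin 3) (Fin 3) F) 0 0) e
  simp [h.gW_val] at this
  exact h.ne_one this

theorem gW_central (g : GL (Fin 3) F) : gW h * g = g * gW h :=
  Units.ext (by simp [h.gW_val])

theorem gQ_A (k : Fin 3) :
    h.gQ k * h.gA = gW h ^ (k : ℕ) * gB ^ 2 * h.gA ^ (k : ℕ) * h.gQ k := by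
  apply Units.ext
  simp [h.gQ_val, h.gA_val, gB_val, h.gW_val, _root_.smul_pow, h.rel_phiA k, smul_smul, mul_assoc,
    mul_comm]

theorem gQ_B (k : Fin 3) :
    h.gQ k * gB =
      gW h ^ (expB k).1 * gB ^ (expB k).2.1 * h.gA ^ (expB k).2.2 * h.gQ k := by
  apply Units.ext
  simp [h.gQ_val, h.gA_val, gB_val, h.gW_val, _root_.smul_pow, h.rel_phiB k, smul_smul, mul_assoc,
    mul_comm]

theorem gQ_sq (k : Fin 3) : h.gQ k * h.gQ k = gZ := by
  apply Units.ext
  rw [Units.val_mul, h.gQ_val, gZ_val, Matrix.smul_mul, Matrix.mul_smul, smul_smul, h.phi_sq,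
    smul_smul]
  have e : (2 * ω + 1)⁻¹ * (2 * ω + 1)⁻¹ * 3 = -1 := by
    have := h.two_ne
    field_simp
    linear_combination 4 * h.rel
  rw [e, neg_one_smul]

theorem gZ_A : gZ * h.gA * gZ = h.gA⁻¹ := by
  refine eq_inv_of_mul_eq_one_left (Units.ext ?_)
  rw [Units.val_mul, Units.val_mul, Units.val_mul, gZ_val, h.gA_val, neg_mul, neg_mul_neg, h.rel_SA,
    ← pow_succ, h.cube_A, Units.val_one]

theorem gZ_B : gZ * gB * gZ = (gB⁻¹ : GL (Fin 3) F) := by
  refine eq_inv_of_mul_eq_one_left (Units.ext ?_)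
  rw [Units.val_mul, Units.val_mul, Units.val_mul, gZ_val, gB_val, neg_mul, neg_mul_neg, rel_SB,
    ← pow_succ, cube_B, Units.val_one]

theorem gQ_01 : h.gQ 0 * h.gQ 1 = h.gQ 2 := by
  apply Units.ext
  rw [Units.val_mul, h.gQ_val, h.gQ_val, h.gQ_val, Matrix.smul_mul, Matrix.mul_smul, smul_smul,
    h.phi_mul.1, smul_smul, mul_assoc, inv_mul_cancel₀ h.two_ne, mul_one]

theorem quat (h2 : (2 : F) ≠ 0) : Quat (gZ : GL (Fin 3) F) (h.gQ 0) (h.gQ 1) := by
  refine ⟨h.gQ_sq 0, h.gQ_sq 1, gZ_sq, fun e => ?_, ?_⟩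
  · have := congrArg (fun u : GL (Fin 3) F => (u : Matrix (Fin 3) (Fin 3) F) 0 0) e
    simp [gZ_val, stS] at this
    exact h2 (by linear_combination -this)
  · rw [h.gQ_01]
    apply Units.ext
    rw [Units.val_mul, Units.val_mul, h.gQ_val, h.gQ_val, h.gQ_val, gZ_val, Matrix.smul_mul,
      Matrix.mul_smul, smul_smul, h.phi_mul.2, smul_smul, neg_mul, Matrix.mul_smul, mul_neg,
      mul_assoc, inv_mul_cancel₀ h.two_ne, mul_one, neg_smul]

theorem det_gA : h.gA ∈ Geo.specialLinear (Fin 3) F := Units.ext h.det_stA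

theorem det_gQ (k : Fin 3) : h.gQ k ∈ Geo.specialLinear (Fin 3) F := Units.ext (h.det_stPhi k)

end CubeRoot

theorem det_gB : (gB : GL (Fin 3) F) ∈ Geo.specialLinear (Fin 3) F := Units.ext det_stB

theorem det_gZ : (gZ : GL (Fin 3) F) ∈ Geo.specialLinear (Fin 3) F := Units.ext det_neg_stS

/-- The standard group of order 27. -/
def stR {ω : F} (h : CubeRoot ω) : Subgroup (GL (Fin 3) F) := Subgroup.closure {h.gA, gB}

namespace CubeRoot

variable {ω : F} (h : CubeRoot ω)
include h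

theorem gA_mem : h.gA ∈ stR h := Subgroup.subset_closure (by simp)

theorem gB_mem : (gB : GL (Fin 3) F) ∈ stR h := Subgroup.subset_closure (by simp)

theorem gW_mem : gW h ∈ stR h := by
  rw [gW, commutatorElement_def]
  exact mul_mem (mul_mem (mul_mem h.gA_mem h.gB_mem) (inv_mem h.gA_mem)) (inv_mem h.gB_mem)

theorem mem_normalizer [Finite F] {g : GL (Fin 3) F} (hA : g * h.gA * g⁻¹ ∈ stR h)
    (hB : g * gB * g⁻¹ ∈ stR h) : g ∈ Geo.subgroupNormalizer (stR h) := by
  have h1 : ∀ r ∈ stR h, g * r * g⁻¹ ∈ stR h := by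
    intro r hr
    have hle : (stR h).map (MulAut.conj g).toMonoidHom ≤ stR h := by
      rw [stR, MonoidHom.map_closure, Subgroup.closure_le]
      rintro _ ⟨x, hx, rfl⟩
      rcases hx with rfl | hx
      · exact hA
      · rw [Set.mem_singleton_iff.mp hx]; exact hB
    exact hle ⟨r, hr, rfl⟩
  refine Subgroup.mem_normalizer_iff.mpr fun x => ⟨h1 x, fun hx => ?_⟩
  let f : stR h → stR h := fun r => ⟨g * r * g⁻¹, h1 r r.2⟩
  obtain ⟨r, hr⟩ := (Finite.injective_iff_surjective (f := f)).mp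
    (fun a b e => Subtype.ext (by simpa [f] using congrArg Subtype.val e)) ⟨_, hx⟩
  have hrx : (r : GL (Fin 3) F) = x := by simpa [f] using congrArg Subtype.val hr
  exact hrx ▸ r.2

theorem gQ_normalizer [Finite F] (k : Fin 3) : h.gQ k ∈ Geo.subgroupNormalizer (stR h) := by
  refine h.mem_normalizer ?_ ?_
  · rw [h.gQ_A, mul_inv_cancel_right]
    exact mul_mem (mul_mem (pow_mem h.gW_mem _) (pow_mem h.gB_mem _)) (pow_mem h.gA_mem _)
  · rw [h.gQ_B, mul_inv_cancel_right]
    exact mul_mem (mul_mem (pow_mem h.gW_mem _) (pow_mem h.gB_mem _)) (pow_mem h.gA_mem _)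

theorem gZ_normalizer [Finite F] : gZ ∈ Geo.subgroupNormalizer (stR h) := by
  rw [← h.gQ_sq 0]
  exact mul_mem (h.gQ_normalizer 0) (h.gQ_normalizer 0)

theorem le_special : stR h ≤ Geo.specialLinear (Fin 3) F := by
  rw [stR, Subgroup.closure_le]
  simp [Set.insert_subset_iff, h.det_gA, det_gB]

end CubeRoot

/-- The determinant of an element of order three and trace zero in dimension three. -/
theorem det_eq_one_of_trace (h2 : (2 : F) ≠ 0) (h3 : (3 : F) ≠ 0) {X : Matrix (Fin 3) (Fin 3) F}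
    (hX : X ^ 3 = 1) (ht : X.trace = 0) : X.det = 1 := by
  have key : 6 * X.det = X.trace ^ 3 - 3 * X.trace * (X ^ 2).trace + 2 * (X ^ 3).trace := by
    simp [Matrix.det_fin_three, Matrix.trace_fin_three, pow_succ, Matrix.mul_apply, Fin.sum_univ_three]
    ring
  rw [ht, hX, Matrix.trace_one, Fintype.card_fin] at key
  refine mul_left_cancel₀ (mul_ne_zero h2 h3) ?_
  linear_combination key

open Aschbacher in
/-- The sixth class data give a class two group. -/
theorem classTwo_of_data [Fintype F] {R : Subgroup (GL (Fin 3) F)}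
    (hR : Geo.IsLinearSymplecticTypeData 3 R) (h2 : (2 : F) ≠ 0) : ClassTwo R := by
  obtain ⟨-, h3, hSC, -⟩ := symplecticData (by simp) hR
  refine ⟨fun hc => ?_, Subgroup.commutator_le.mpr hSC.comm_scalar, fun x hx => Units.ext ?_, hR.absIrred⟩
  · exact irr_not_le_scalars (irr_iff.mpr hSC.absIrred.1) (by simp) fun z hz =>
      mem_scalars_of_commute hSC.absIrred fun y hy => (hc z hz y hy)
  · have hexp : x ^ 3 = 1 := by
      have := Monoid.pow_exponent_eq_one (⟨x, hx⟩ : R)
      rw [hR.symplecticType.exponent_eq] at this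
      simpa using congrArg Subtype.val this
    have hexp' : (x : Matrix (Fin 3) (Fin 3) F) ^ 3 = 1 := by
      rw [← Units.val_pow_eq_pow_val, hexp, Units.val_one]
    show (x : Matrix (Fin 3) (Fin 3) F).det = 1
    by_cases hs : x ∈ Geo.scalars (Fin 3) F
    · obtain ⟨c, hc⟩ := (Geo.mem_scalars_iff x).mp hs
      rw [hc, Matrix.det_smul, Matrix.det_one, mul_one, Fintype.card_fin]
      rw [hc, _root_.smul_pow, one_pow] at hexp'
      simpa using congrArg (fun M : Matrix (Fin 3) (Fin 3) F => M 0 0) hexp'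
    · exact det_eq_one_of_trace h2 (by exact_mod_cast h3) hexp' (hSC.trace_eq_zero hx hs)

open Aschbacher in
/-- The frame: a conjugate of the group is the standard one. -/
theorem exists_frame [Fintype F] {R : Subgroup (GL (Fin 3) F)}
    (hR : Geo.IsLinearSymplecticTypeData 3 R) (h2 : (2 : F) ≠ 0) :
    ∃ (ω : F) (h : CubeRoot ω) (g : GL (Fin 3) F), R.map (MulAut.conj g).toMonoidHom = stR h := by
  have hC := classTwo_of_data hR h2
  obtain ⟨-, h3', -⟩ := symplecticData (by simp) hR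
  have h3 : (3 : F) ≠ 0 := by exact_mod_cast h3'
  have hn : (Fintype.card (Fin 3)).Prime := by simpa using Nat.prime_three
  have hodd : Odd (Fintype.card (Fin 3)) := ⟨1, by simp⟩
  obtain ⟨x, y, w, hp⟩ := hC.exists_hpair
  have hprim := hp.primitive hC hn
  obtain ⟨b, hbx, hby⟩ := hp.exists_basis hC hn hodd
  set ω := w⁻¹ with hω
  have hwp : IsPrimitiveRoot ω 3 := Fintype.card_fin 3 ▸ hprim.inv
  have h : CubeRoot ω := by
    refine ⟨?_, h3⟩
    have := hwp.geom_sum_eq_zero (by norm_num)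
    simp [Finset.sum_range_succ] at this
    linear_combination this
  let e : Fin 3 ≃ Fin (Fintype.card (Fin 3)) := (finCongr (Fintype.card_fin 3)).symm
  let b3 : Module.Basis (Fin 3) F (Fin 3 → F) := b.reindex e.symm
  have hb3 : ∀ i, b3 i = b (e i) := fun i => by simp [b3]
  let P : Matrix (Fin 3) (Fin 3) F := Matrix.of fun i j => b3 j i
  have hPu : IsUnit P := Matrix.linearIndependent_cols_iff_isUnit.mp b3.linearIndependent
  let g : GL (Fin 3) F := hPu.unit
  have hg : (g : Matrix (Fin 3) (Fin 3) F) = P := rfl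
  have hcol : ∀ j, P *ᵥ Pi.single j 1 = b3 j := fun j => by ext i; simp [P]
  have hxA : x * g = g * h.gA := by
    apply Units.ext
    rw [Units.val_mul, Units.val_mul, hg, h.gA_val]
    refine Matrix.ext_of_mulVec_single fun j => ?_
    rw [← Matrix.mulVec_mulVec, ← Matrix.mulVec_mulVec, hcol, hb3, hbx]
    have he : stA ω *ᵥ Pi.single j 1 = ω ^ (j : ℕ) • Pi.single j 1 := by
      ext i; fin_cases j <;> fin_cases i <;> simp [stA]
    rw [he, Matrix.mulVec_smul, hcol, hb3]
    rfl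
  have hyB : y * g = g * gB := by
    apply Units.ext
    rw [Units.val_mul, Units.val_mul, hg, gB_val]
    refine Matrix.ext_of_mulVec_single fun j => ?_
    rw [← Matrix.mulVec_mulVec, ← Matrix.mulVec_mulVec, hcol, hb3, hby]
    have he : stB *ᵥ Pi.single j 1 = Pi.single (j + 1) (1 : F) := by
      ext i; fin_cases j <;> fin_cases i <;> simp [stB]
    rw [he, hcol, hb3]
    congr 1
  have hcx : g⁻¹ * x * g⁻¹⁻¹ = h.gA := by rw [inv_inv, mul_assoc, hxA, inv_mul_cancel_left]
  have hcy : g⁻¹ * y * g⁻¹⁻¹ = gB := by rw [inv_inv, mul_assoc, hyB, inv_mul_cancel_left]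
  refine ⟨ω, h, g⁻¹, le_antisymm ?_ ?_⟩
  · rintro _ ⟨r, hr, rfl⟩
    obtain ⟨a, i, j, hrv⟩ := hp.structure hC hn hodd hr
    obtain ⟨z, hzR, hz⟩ := hp.omega_mem hC a
    have hre : r = z * (x ^ (i : ℕ) * y ^ (j : ℕ)) := Units.ext (by simp [hz, hrv])
    have hzc : z ∈ Geo.scalars (Fin 3) F :=
      (Geo.mem_scalars_iff z).mpr ⟨Units.mk0 _ (pow_ne_zero _ (hprim.ne_zero hn.ne_zero)), hz⟩
    have hzmem : z ∈ stR h := by
      have hz' : z = gW h ^ (2 * (a : ℕ)) := Units.ext (by
        rw [hz, h.gW_pow_val, hω, inv_pow, pow_mul]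
        congr 1
        have hw3 : w ^ 3 = 1 := by simpa using hprim.pow_eq_one
        refine eq_inv_of_mul_eq_one_left ?_
        rw [← pow_mul, ← pow_add, show (a : ℕ) + 2 * a = 3 * a by ring, pow_mul, hw3, one_pow])
      exact hz' ▸ pow_mem h.gW_mem _
    show g⁻¹ * r * g⁻¹⁻¹ ∈ stR h
    have hconj : ∀ u : GL (Fin 3) F, g⁻¹ * u * g⁻¹⁻¹ = MulAut.conj g⁻¹ u := fun u => rfl
    rw [hre, hconj, map_mul, map_mul, map_pow, map_pow, ← hconj, ← hconj, ← hconj, hcx, hcy]
    refine mul_mem ?_ (mul_mem (pow_mem h.gA_mem _) (pow_mem h.gB_mem _))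
    rw [scalars_central hzc, mul_inv_cancel_right]
    exact hzmem
  · rw [stR, Subgroup.closure_le]
    simp only [Set.insert_subset_iff, Set.singleton_subset_iff, SetLike.mem_coe]
    exact ⟨⟨x, hp.memx, hcx⟩, ⟨y, hp.memy, hcy⟩⟩

end Cfsg.Agent.SL3Geo34
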