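import Cfsg.Agent.SL3Geo34.Frame

/-!
A commutative space of matrices invariant under the standard normaliser is scalar (helper34, for S5774).
-/

set_option autoImplicit false

namespace Cfsg.Agent.SL3Geo34

open Matrix Aschbacher
open scoped MatrixGroups commutatorElement

variable {F : Type*} [Field F] {ω : F}

theorem stA_conj (X : Matrix (Fin 3) (Fin 3) F) (i j : Fin 3) :
    (stA ω * X * stA ω ^ 2) i j = ω ^ (i : ℕ) * X i j * (ω ^ (j : ℕ)) ^ 2 := by
  have e : stA ω = Matrix.diagonal (fun k : Fin 3 => ω ^ (k : ℕ)) := by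
    ext i j; fin_cases i <;> fin_cases j <;> simp [stA]
  rw [e, Matrix.diagonal_pow, Matrix.mul_diagonal, Matrix.diagonal_mul, Pi.pow_apply]

theorem stB_conj (X : Matrix (Fin 3) (Fin 3) F) (i j : Fin 3) :
    ((stB : Matrix (Fin 3) (Fin 3) F) * X * stB ^ 2 : Matrix (Fin 3) (Fin 3) F) i j = X (i + 2) (j + 2) := by
  fin_cases i <;> fin_cases j <;> simp [stB, pow_two, Matrix.mul_apply, Matrix.vecMul, dotProduct, Fin.sum_univ_three]

theorem mono_apply (a t i j : Fin 3) :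
    ((stB : Matrix (Fin 3) (Fin 3) F) ^ (a : ℕ) * stA ω ^ (t : ℕ) : Matrix (Fin 3) (Fin 3) F) i j = if i = j + a then (ω ^ (j : ℕ)) ^ (t : ℕ) else 0 := by
  have e : stA ω = Matrix.diagonal (fun k : Fin 3 => ω ^ (k : ℕ)) := by
    ext i j; fin_cases i <;> fin_cases j <;> simp [stA]
  rw [e, Matrix.diagonal_pow, Matrix.mul_diagonal, Pi.pow_apply]
  fin_cases a <;> fin_cases i <;> fin_cases j <;>
    simp [stB, pow_two, Matrix.mul_apply, Fin.sum_univ_three]

set_option maxHeartbeats 1000000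

namespace CubeRoot

variable (h : CubeRoot ω)
include h

/-- No commutative space of matrices with a non-scalar member is invariant under the normaliser. -/
theorem scalar_of_invariant {V : Submodule F (Matrix (Fin 3) (Fin 3) F)}
    (hc : ∀ X ∈ V, ∀ Y ∈ V, X * Y = Y * X)
    (hinv : ∀ g : GL (Fin 3) F, g = h.gA ∨ g = gB ∨ g = h.gQ 0 → ∀ X ∈ V,
      (g : Matrix (Fin 3) (Fin 3) F) * X * ((g⁻¹ : GL (Fin 3) F) : Matrix (Fin 3) (Fin 3) F) ∈ V)
    {X : Matrix (Fin 3) (Fin 3) F} (hX : X ∈ V) : ∃ c : F, X = c • (1 : Matrix (Fin 3) (Fin 3) F) := by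
  have hr := h.rel
  have hw := h.ne_one
  have hA1 : ∀ Y ∈ V, stA ω * Y * stA ω ^ 2 ∈ V := fun Y hY => by
    have e : (h.gA)⁻¹ = h.gA ^ 2 := inv_eq_of_mul_eq_one_right (by rw [← pow_succ', h.gA_cube])
    have := hinv _ (Or.inl rfl) Y hY
    rwa [e, Units.val_pow_eq_pow_val, h.gA_val] at this
  have hB1 : ∀ Y ∈ V, stB * Y * stB ^ 2 ∈ V := fun Y hY => by
    have e : (gB : GL (Fin 3) F)⁻¹ = gB ^ 2 := inv_eq_of_mul_eq_one_right (by rw [← pow_succ', gB_cube])
    have := hinv _ (Or.inr (Or.inl rfl)) Y hY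
    rwa [e, Units.val_pow_eq_pow_val, gB_val] at this
  have zero : ∀ a t : Fin 3, (a ≠ 0 ∨ t ≠ 0) →
      X a 0 + ω ^ (t : ℕ) * X (a + 2) 2 + (ω ^ (t : ℕ)) ^ 2 * X (a + 1) 1 = 0 := by
    intro a t hat
    by_contra hne
    let E : Matrix (Fin 3) (Fin 3) F := X + (ω ^ (a : ℕ)) ^ 2 • (stA ω * X * stA ω ^ 2) +
      ω ^ (a : ℕ) • (stA ω * (stA ω * X * stA ω ^ 2) * stA ω ^ 2)
    have hE : E ∈ V := add_mem (add_mem hX (V.smul_mem _ (hA1 X hX))) (V.smul_mem _ (hA1 _ (hA1 X hX)))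
    let G : Matrix (Fin 3) (Fin 3) F := E + ω ^ (t : ℕ) • (stB * E * stB ^ 2) +
      (ω ^ (t : ℕ)) ^ 2 • (stB * (stB * E * stB ^ 2) * stB ^ 2)
    have hG : G ∈ V := add_mem (add_mem hE (V.smul_mem _ (hB1 E hE))) (V.smul_mem _ (hB1 _ (hB1 E hE)))
    have hEe : ∀ i j, E i j = if i = j + a then 3 * X i j else 0 := by
      intro i j
      simp only [E, Matrix.add_apply, Matrix.smul_apply, smul_eq_mul, stA_conj]
      fin_cases a <;> fin_cases i <;> fin_cases j <;> simp <;> grind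
    have hiff : ∀ i j k : Fin 3, (i + k = j + k + a) ↔ i = j + a := fun i j k => by
      constructor
      · intro e; rw [add_right_comm] at e; exact add_right_cancel e
      · intro e; rw [e, add_right_comm]
    have hGe : G = (3 * (X a 0 + ω ^ (t : ℕ) * X (a + 2) 2 + (ω ^ (t : ℕ)) ^ 2 * X (a + 1) 1)) •
        (stB ^ (a : ℕ) * stA ω ^ (t : ℕ)) := by
      ext i j
      simp only [G, Matrix.add_apply, Matrix.smul_apply, smul_eq_mul, stB_conj, hEe, mono_apply]
      simp only [hiff]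
      by_cases hij : i = j + a
      · subst hij
        simp only [if_true]
        fin_cases a <;> fin_cases t <;> fin_cases j <;> simp <;> grind
      · simp [hij]
    have hm : stB ^ (a : ℕ) * stA ω ^ (t : ℕ) ∈ V := by
      rw [hGe] at hG
      have h1 := V.smul_mem
        (3 * (X a 0 + ω ^ (t : ℕ) * X (a + 2) 2 + (ω ^ (t : ℕ)) ^ 2 * X (a + 1) 1))⁻¹ hG
      rwa [smul_smul, inv_mul_cancel₀ (mul_ne_zero h.three hne), one_smul] at h1
    have hqA : h.gQ 0 * h.gA * (h.gQ 0)⁻¹ = gB ^ 2 := by simp [h.gQ_A]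
    have hqB : h.gQ 0 * gB * (h.gQ 0)⁻¹ = h.gA := by simp [h.gQ_B, expB]
    have hq : h.gQ 0 * (gB ^ (a : ℕ) * h.gA ^ (t : ℕ)) * (h.gQ 0)⁻¹ =
        h.gA ^ (a : ℕ) * (gB ^ 2) ^ (t : ℕ) := by
      calc _ = (h.gQ 0 * gB * (h.gQ 0)⁻¹) ^ (a : ℕ) * (h.gQ 0 * h.gA * (h.gQ 0)⁻¹) ^ (t : ℕ) := by
            rw [conj_pow, conj_pow]; group
        _ = _ := by rw [hqA, hqB]
    have hm' : stA ω ^ (a : ℕ) * (stB ^ 2) ^ (t : ℕ) ∈ V := by
      have := hinv _ (Or.inr (Or.inr rfl)) _ hm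
      rw [← h.gA_val, ← gB_val] at this ⊢
      simp only [← Units.val_pow_eq_pow_val, ← Units.val_mul] at this ⊢
      rwa [hq] at this
    have hcomm := hc _ hm _ hm'
    have ec := fun i j => congrArg (fun M : Matrix (Fin 3) (Fin 3) F => M i j) hcomm
    have h3 := h.three
    have hw0 := h.ne_zero
    have c00 := ec 0 0
    have c01 := ec 0 1
    have c02 := ec 0 2
    have c10 := ec 1 0
    have c20 := ec 2 0
    fin_cases a <;> fin_cases t <;>
      simp [stA, stB, pow_two, Matrix.mul_apply, Fin.sum_univ_three] at c00 c01 c02 c10 c20 hat <;>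
      grind
  have h3 := h.three
  have z10 := zero 1 0 (Or.inl (by decide))
  have z11 := zero 1 1 (Or.inl (by decide))
  have z12 := zero 1 2 (Or.inl (by decide))
  have z20 := zero 2 0 (Or.inl (by decide))
  have z21 := zero 2 1 (Or.inl (by decide))
  have z22 := zero 2 2 (Or.inl (by decide))
  have z01 := zero 0 1 (Or.inr (by decide))
  have z02 := zero 0 2 (Or.inr (by decide))
  simp at z10 z11 z12 z20 z21 z22 z01 z02
  refine ⟨X 0 0, ?_⟩
  ext i j; fin_cases i <;> fin_cases j <;> simp <;> grind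

end CubeRoot

end Cfsg.Agent.SL3Geo34
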