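import Cfsg.Agent.SL3Geo34.InvSpace
import Cfsg.Agent.Aschbacher.Prime
import Cfsg.Agent.PSp43Rec57.CSigma
import Cfsg.Agent.ZStar.Main
import Cfsg.Agent.PF14.Compose

/-!
When the involution of the standard normaliser is isolated in an overgroup, that overgroup normalises the
standard group of order 27 (helper34, for S5774).
-/

set_option autoImplicit false

namespace Cfsg.Agent.SL3Geo34

open Matrix Aschbacher
open scoped MatrixGroups commutatorElement

variable {F : Type*} [Field F] {ω : F}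

theorem gA_not_scalar (h : CubeRoot ω) : h.gA ∉ Geo.scalars (Fin 3) F := by
  intro hs
  obtain ⟨c, hc⟩ := (Geo.mem_scalars_iff _).mp hs
  have e0 := congrArg (fun M : Matrix (Fin 3) (Fin 3) F => M 0 0) hc
  have e1 := congrArg (fun M : Matrix (Fin 3) (Fin 3) F => M 1 1) hc
  simp [h.gA_val, stA] at e0 e1
  exact h.ne_one (e1.trans e0.symm)

theorem gZ_not_scalar : (gZ : GL (Fin 3) F) ∉ Geo.scalars (Fin 3) F := by
  intro hs
  obtain ⟨c, hc⟩ := (Geo.mem_scalars_iff _).mp hs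
  have e0 := congrArg (fun M : Matrix (Fin 3) (Fin 3) F => M 0 0) hc
  have e1 := congrArg (fun M : Matrix (Fin 3) (Fin 3) F => M 1 1) hc
  simp [gZ_val, stS] at e0 e1
  exact c.ne_zero e1.symm

set_option maxHeartbeats 1000000

namespace CubeRoot

variable (h : CubeRoot ω)
include h

theorem not_comm {L : Subgroup (GL (Fin 3) F)}
    (hn : ∀ g : GL (Fin 3) F, g = h.gA ∨ g = gB ∨ g = h.gQ 0 → ∀ x ∈ L, g * x * g⁻¹ ∈ L)
    (hs : ¬ L ≤ Geo.scalars (Fin 3) F) : ¬ Comm L := by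
  intro hc
  refine hs fun x hx => ?_
  let V := Submodule.span F (Geo.matrixSet L)
  have hcV : ∀ X ∈ V, ∀ Y ∈ V, X * Y = Y * X := by
    have h1 : ∀ X ∈ Geo.matrixSet L, ∀ Y ∈ V, X * Y = Y * X := by
      rintro _ ⟨g, hg, rfl⟩ Y hY
      induction hY using Submodule.span_induction with
      | mem y hy => obtain ⟨k, hk, rfl⟩ := hy; exact congrArg Units.val (hc g hg k hk)
      | zero => simp
      | add a b _ _ ha hb => simp only [mul_add, add_mul] at *; rw [ha, hb]
      | smul c a _ ha => simp only [Matrix.mul_smul, Matrix.smul_mul] at *; rw [ha]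
    intro X hX Y hY
    induction hX using Submodule.span_induction with
    | mem y hy => exact h1 y hy Y hY
    | zero => simp
    | add a b _ _ ha hb => rw [mul_add, add_mul, ha, hb]
    | smul c a _ ha => rw [Matrix.mul_smul, Matrix.smul_mul, ha]
  obtain ⟨c, hc'⟩ := h.scalar_of_invariant hcV (fun g hg X hX => by
    induction hX using Submodule.span_induction with
    | mem y hy =>
      obtain ⟨k, hk, rfl⟩ := hy
      exact Submodule.subset_span ⟨_, hn g hg k hk, by simp⟩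
    | zero => simp
    | add a b _ _ ha hb => rw [mul_add, add_mul]; exact add_mem ha hb
    | smul c a _ ha => rw [Matrix.mul_smul, Matrix.smul_mul]; exact V.smul_mem c ha)
    (Submodule.subset_span ⟨x, hx, rfl⟩)
  exact mem_scalars_of_smul hc'

/-- A class two group normalised by the standard normaliser is the standard group. -/
theorem eq_stR {L : Subgroup (GL (Fin 3) F)} (hL : ClassTwo L)
    (hn : ∀ g : GL (Fin 3) F, g = h.gA ∨ g = gB ∨ g = h.gQ 0 → ∀ x ∈ L, g * x * g⁻¹ ∈ L) :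
    L = stR h := by
  have h3n : (Fintype.card (Fin 3)).Prime := by simpa using Nat.prime_three
  have hodd : Odd (Fintype.card (Fin 3)) := ⟨1, by simp⟩
  have hcube : ∀ x ∈ L, x ^ 3 = 1 := fun x hx => by simpa using hL.pow_card h3n hodd hx
  have hzi : (gZ : GL (Fin 3) F)⁻¹ = gZ := inv_eq_of_mul_eq_one_right gZ_sq
  have hzL : ∀ x ∈ L, gZ * x * gZ ∈ L := fun x hx => by
    have h1 := hn _ (Or.inr (Or.inr rfl)) _ (hn _ (Or.inr (Or.inr rfl)) x hx)
    rw [show h.gQ 0 * (h.gQ 0 * x * (h.gQ 0)⁻¹) * (h.gQ 0)⁻¹ =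
      h.gQ 0 * h.gQ 0 * x * (h.gQ 0 * h.gQ 0)⁻¹ by group, h.gQ_sq, hzi] at h1
    exact h1
  have hz2 : ∀ x : GL (Fin 3) F, gZ * (gZ * x) = x := fun x => by rw [← mul_assoc, gZ_sq, one_mul]
  -- an element inverted by the involution
  obtain ⟨x, hx, hu⟩ : ∃ x ∈ L, x⁻¹ * (gZ * x * gZ) ∉ Geo.scalars (Fin 3) F := by
    by_contra hcon
    push Not at hcon
    refine gZ_not_scalar (mem_scalars_of_commute hL.absIrr fun x hx => ?_)
    obtain ⟨s, hs⟩ : ∃ s, s = x⁻¹ * (gZ * x * gZ) := ⟨_, rfl⟩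
    have hsc : ∀ g, g * s = s * g := scalars_central (hs ▸ hcon x hx)
    have hs3 : s ^ 3 = 1 := hcube s (hs ▸ mul_mem (inv_mem hx) (hzL x hx))
    have e1 : gZ * x * gZ = x * s := by rw [hs]; group
    have e2 : x = x * s * s := by
      calc x = gZ * (gZ * x * gZ) * gZ := by simp [mul_assoc, hz2, gZ_sq]
        _ = gZ * (x * s) * gZ := by rw [e1]
        _ = gZ * x * gZ * s := by
          rw [mul_assoc gZ (x * s) gZ, mul_assoc x s gZ, ← hsc gZ]; group
        _ = x * s * s := by rw [e1]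
    have hs2 : s * s = 1 := by rw [mul_assoc] at e2; exact mul_eq_left.mp e2.symm
    have hs1 : s = 1 := by rw [← hs3, pow_succ, pow_two, hs2, one_mul]
    rw [hs1, mul_one] at e1
    calc gZ * x = gZ * x * gZ * gZ := by simp [mul_assoc, gZ_sq]
      _ = x * gZ := by rw [e1]
  set u := x⁻¹ * (gZ * x * gZ) with hudef
  have huL : u ∈ L := mul_mem (inv_mem hx) (hzL x hx)
  have huz : gZ * u * gZ = u⁻¹ := by
    rw [hudef]
    simp [mul_assoc, hzi, gZ_sq]
  set q := h.gQ 0 with hq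
  have hqz : q * gZ = gZ * q := by rw [hq, ← h.gQ_sq 0, mul_assoc]
  set u' := q * u * q⁻¹ with hu'def
  have hu'L : u' ∈ L := hn _ (Or.inr (Or.inr rfl)) u huL
  have hu'z : gZ * u' * gZ = u'⁻¹ := by
    rw [hu'def, show (q * u * q⁻¹)⁻¹ = q * u⁻¹ * q⁻¹ by group, ← huz]
    have e : q⁻¹ * gZ = gZ * q⁻¹ := by
      rw [inv_mul_eq_iff_eq_mul, ← mul_assoc, hqz, mul_assoc, mul_inv_cancel, mul_one]
    rw [show q * (gZ * u * gZ) * q⁻¹ = (q * gZ) * u * (gZ * q⁻¹) by group, ← e, hqz]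
    group
  clear_value u u' q
  -- the two do not commute
  have hne : ¬ u * u' = u' * u := by
    intro hcomm
    obtain ⟨y, w, hp⟩ := hL.exists_pair huL hu
    obtain ⟨a, i, j, hs⟩ := hp.structure hL h3n hodd hu'L
    have hprim := hp.primitive hL h3n
    have hj : (j : ℕ) = 0 := by
      have hyk : ∀ k : ℕ, (y : Matrix (Fin 3) (Fin 3) F) ^ k * u =
          w ^ k • ((u : Matrix (Fin 3) (Fin 3) F) * (y : Matrix (Fin 3) (Fin 3) F) ^ k) := by
        intro k
        induction k with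
        | zero => simp
        | succ k ih =>
          rw [pow_succ, mul_assoc, hp.rel, Matrix.mul_smul, ← mul_assoc, ih, Matrix.smul_mul,
            smul_smul, mul_assoc, ← pow_succ, ← pow_succ']
      have e1 : (u : Matrix (Fin 3) (Fin 3) F) * u' = (u' : Matrix (Fin 3) (Fin 3) F) * u := by
        rw [← Units.val_mul, ← Units.val_mul, hcomm]
      have e2 : (u' : Matrix (Fin 3) (Fin 3) F) * u =
          w ^ (j : ℕ) • ((u : Matrix (Fin 3) (Fin 3) F) * u') := by
        rw [hs, Matrix.smul_mul, mul_assoc, hyk, Matrix.mul_smul, Matrix.mul_smul, smul_comm,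
          ← mul_assoc, ← pow_succ, pow_succ', mul_assoc]
      rw [← e1] at e2
      have hne0 : (u : Matrix (Fin 3) (Fin 3) F) * u' ≠ 0 := by
        rw [← Units.val_mul]; exact Units.ne_zero _
      have := smul_left_injective F hne0 ((one_smul F _).trans e2)
      exact hprim.pow_inj j.2 (by simp) (by rw [pow_zero]; exact this.symm)
    rw [hj, pow_zero, mul_one, ← Units.val_pow_eq_pow_val] at hs
    have hsc : u' * (u ^ (i : ℕ))⁻¹ ∈ Geo.scalars (Fin 3) F := mem_scalars_of_smul (c := w ^ (a : ℕ))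
      (by rw [Units.val_mul, hs, Matrix.smul_mul, Units.mul_inv])
    obtain ⟨π, hπ, hker⟩ : ∃ π : GL (Fin 3) F →* GL (Fin 3) F ⧸ Geo.scalars (Fin 3) F,
        π = QuotientGroup.mk' _ ∧ ∀ g, π g = 1 ↔ g ∈ Geo.scalars (Fin 3) F :=
      ⟨_, rfl, fun g => QuotientGroup.eq_one_iff g⟩
    have p1 : π u' = π u ^ (i : ℕ) := by
      have := (hker _).mpr hsc
      rwa [map_mul, map_inv, mul_inv_eq_one, map_pow] at this
    have p2 : π q * π u' * (π q)⁻¹ = (π u)⁻¹ := by
      rw [← map_inv, ← map_mul, ← map_mul, hu'def,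
        show q * (q * u * q⁻¹) * q⁻¹ = (q * q) * u * (q * q)⁻¹ by group, hq, h.gQ_sq, hzi, huz, map_inv]
    rw [p1, ← conj_pow] at p2
    rw [show π q * π u * (π q)⁻¹ = π u' by rw [hu'def, map_mul, map_mul, map_inv], p1, ← pow_mul] at p2
    have p3 : π u ^ ((i : ℕ) * i + 1) = 1 := by rw [pow_succ, p2, inv_mul_cancel]
    have p4 : π u ^ 3 = 1 := by rw [← map_pow, hcube u huL, map_one]
    have hi3 : (i : ℕ) < 3 := lt_of_lt_of_le i.2 (by simp)
    refine hu ((hker u).mp ?_)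
    interval_cases hi : (i : ℕ)
    · simpa using p3
    · calc π u = π u ^ 3 * π u := by rw [p4, one_mul]
        _ = (π u ^ 2) ^ 2 := by group
        _ = 1 := by rw [show π u ^ 2 = 1 by simpa using p3, one_pow]
    · calc π u = (π u ^ 5) ^ 2 * ((π u ^ 3) ^ 3)⁻¹ := by group
        _ = 1 := by rw [p4, show π u ^ 5 = 1 by simpa using p3, one_pow, one_pow, inv_one, mul_one]
  obtain ⟨c, -, hc⟩ := hL.exists_rel huL hu'L
  have hpair : HPair L u u' c := ⟨huL, hu'L, hc, fun e => hne (Units.ext (by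
    rw [Units.val_mul, Units.val_mul, hc, e, one_smul]))⟩
  set π := QuotientGroup.mk' (Geo.scalars (Fin 3) F) with hπ
  have hker : ∀ g, π g = 1 ↔ g ∈ Geo.scalars (Fin 3) F := fun g => QuotientGroup.eq_one_iff g
  have hLcomm : ∀ a ∈ L, ∀ b ∈ L, Commute (π a) (π b) := fun a ha b hb => by
    have := (hker _).mpr (hL.comm_le (Subgroup.commutator_mem_commutator ha hb))
    rwa [map_commutatorElement, commutatorElement_eq_one_iff_commute] at this
  have hinv : ∀ y ∈ L, π (gZ * y * gZ) = (π y)⁻¹ := by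
    intro y hy
    obtain ⟨a, i, j, hs⟩ := hpair.structure hL h3n hodd hy
    obtain ⟨s, hsL, hsv⟩ := hpair.omega_mem hL a
    have hy' : y = s * (u ^ (i : ℕ) * u' ^ (j : ℕ)) := Units.ext (by simp [hsv, hs])
    have hπs : π s = 1 := (hker s).mpr (mem_scalars_of_smul hsv)
    have hzy : gZ * y * gZ = MulAut.conj gZ y := by simp [hzi]
    rw [hzy, hy']
    simp only [map_mul, map_pow]
    simp only [MulAut.conj_apply, hzi, huz, hu'z, map_mul, map_pow, map_inv, hπs]
    have hπz : π gZ * π gZ = 1 := by rw [← map_mul, gZ_sq, map_one]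
    rw [mul_one, hπz, one_mul, one_mul, _root_.mul_inv_rev, inv_pow, inv_pow]
    exact ((hLcomm u huL u' hu'L).pow_pow _ _).inv_inv.eq
  have hr : ∀ r : GL (Fin 3) F, r = h.gA ∨ r = gB → ∀ y ∈ L, Commute (π r) (π y) := by
    intro r hr y hy
    obtain ⟨hz, h3, hrn⟩ : gZ * r * gZ = r⁻¹ ∧ r ^ 3 = 1 ∧ r * y * r⁻¹ ∈ L := by
      rcases hr with rfl | rfl
      · exact ⟨h.gZ_A, h.gA_cube, hn _ (Or.inl rfl) y hy⟩
      · exact ⟨h.gZ_B, gB_cube, hn _ (Or.inr (Or.inl rfl)) y hy⟩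
    have hz' : gZ * r⁻¹ * gZ = r := by
      rw [← hz]; simp [mul_assoc, hz2, gZ_sq]
    have e1 := hinv _ hrn
    rw [show gZ * (r * y * r⁻¹) * gZ = (gZ * r * gZ) * (gZ * y * gZ) * (gZ * r⁻¹ * gZ) by
        simp [mul_assoc, hz2], hz, hz', map_mul, map_mul, hinv y hy, map_inv] at e1
    simp only [map_mul, map_inv] at e1
    have h3' : π r ^ 3 = 1 := by rw [← map_pow, h3, map_one]
    have e2 : (π r)⁻¹ * π y * π r = π r * π y * (π r)⁻¹ := by
      refine inv_injective ?_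
      rw [← e1]; group
    show π r * π y = π y * π r
    have e3 : π r ^ 2 = (π r)⁻¹ := eq_inv_of_mul_eq_one_left (by rw [← pow_succ, h3'])
    have e4 : π r ^ 2 * π y * (π r ^ 2)⁻¹ = π y := by
      calc π r ^ 2 * π y * (π r ^ 2)⁻¹ = π r * (π r * π y * (π r)⁻¹) * (π r)⁻¹ := by rw [pow_two]; group
        _ = π r * ((π r)⁻¹ * π y * π r) * (π r)⁻¹ := by rw [e2]
        _ = π y := by group
    rw [e3, inv_inv, mul_assoc, inv_mul_eq_iff_eq_mul] at e4
    exact e4.symm
  let K : Subgroup (GL (Fin 3) F) :=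
    Geo.specialLinear (Fin 3) F ⊓ (Subgroup.centralizer (L.map π : Set _)).comap π
  have hLK : L ≤ K := le_inf hL.det_one fun a ha => Subgroup.mem_centralizer_iff.mpr (by
    rintro _ ⟨b, hb, rfl⟩; exact (hLcomm a ha b hb).eq.symm)
  have hK : ClassTwo K := by
    refine ⟨fun hc' => hL.notComm fun a ha b hb => hc' a (hLK ha) b (hLK hb),
      Subgroup.commutator_le.mpr fun g hg g' hg' => ?_, inf_le_left, ?_⟩
    · refine mem_scalars_of_commute hL.absIrr fun y hy => ?_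
      have key : ∀ g ∈ K, ∃ s ∈ Geo.scalars (Fin 3) F, g * y * g⁻¹ = s * y := fun g hg => by
        refine ⟨g * y * g⁻¹ * y⁻¹, (hker _).mp ?_, by group⟩
        have := Subgroup.mem_centralizer_iff.mp hg.2 (π y) ⟨y, hy, rfl⟩
        rw [map_mul, map_mul, map_mul, map_inv, map_inv, ← this, mul_inv_cancel_right, mul_inv_cancel]
      obtain ⟨s, hs, es⟩ := key g⁻¹ (inv_mem hg)
      obtain ⟨s', hs', es'⟩ := key g'⁻¹ (inv_mem hg')
      rw [show ⁅g, g'⁆ = (g'⁻¹ * g⁻¹ : GL (Fin 3) F)⁻¹ * (g⁻¹ * g'⁻¹) * 1 * 1 * 1 by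
        rw [commutatorElement_def]; group]
      simp only [mul_one]
      generalize g⁻¹ = k at es ⊢
      generalize g'⁻¹ = k' at es' ⊢
      have e1 : k * k' * y * (k * k')⁻¹ = k' * k * y * (k' * k)⁻¹ := by
        rw [show k * k' * y * (k * k')⁻¹ = k * (k' * y * k'⁻¹) * k⁻¹ by group,
          show k' * k * y * (k' * k)⁻¹ = k' * (k * y * k⁻¹) * k'⁻¹ by group, es, es',
          show k * (s' * y) * k⁻¹ = k * s' * k⁻¹ * (k * y * k⁻¹) by group,
          show k' * (s * y) * k'⁻¹ = k' * s * k'⁻¹ * (k' * y * k'⁻¹) by group, es, es',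
          scalars_central hs k', scalars_central hs' k, mul_inv_cancel_right, mul_inv_cancel_right,
          ← mul_assoc, ← mul_assoc, scalars_central hs s']
      calc (k' * k)⁻¹ * (k * k') * y
          = (k' * k)⁻¹ * (k * k' * y * (k * k')⁻¹) * (k * k') := by group
        _ = (k' * k)⁻¹ * (k' * k * y * (k' * k)⁻¹) * (k * k') := by rw [e1]
        _ = y * ((k' * k)⁻¹ * (k * k')) := by group
    · refine ⟨fun W hW => hL.absIrr.1 W fun s hs => hW s (Set.image_mono hLK hs), fun M hM =>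
        hL.absIrr.2 M fun s hs => hM s (Set.image_mono hLK hs)⟩
  have hpK : HPair K u u' c := ⟨hLK huL, hLK hu'L, hc, hpair.ne_one⟩
  have hAB : ∀ r : GL (Fin 3) F, r = h.gA ∨ r = gB → r ∈ L := by
    intro r hr'
    have hrK : r ∈ K := by
      refine ⟨?_, Subgroup.mem_centralizer_iff.mpr ?_⟩
      · rcases hr' with rfl | rfl
        · exact h.det_gA
        · exact det_gB
      · rintro _ ⟨b, hb, rfl⟩; exact (hr r hr' b hb).eq.symm
    obtain ⟨a, i, j, hs⟩ := hpK.structure hK h3n hodd hrK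
    obtain ⟨s, hsL, hsv⟩ := hpair.omega_mem hL a
    have e : r = s * (u ^ (i : ℕ) * u' ^ (j : ℕ)) := Units.ext (by simp [hsv, hs])
    exact e ▸ mul_mem hsL (mul_mem (pow_mem huL _) (pow_mem hu'L _))
  have hAB' : HPair L h.gA gB (ω ^ 2) := by
    refine ⟨hAB _ (Or.inl rfl), hAB _ (Or.inr rfl), h.rel_BA, fun e => h.ne_one ?_⟩
    linear_combination h.cube - ω * e
  refine le_antisymm (fun y hy => ?_) ((Subgroup.closure_le _).mpr ?_)
  · obtain ⟨a, i, j, hs⟩ := hAB'.structure hL h3n hodd hy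
    have e : y = gW h ^ (2 * (a : ℕ)) * (h.gA ^ (i : ℕ) * gB ^ (j : ℕ)) :=
      Units.ext (by simp [hs, h.gW_val, _root_.smul_pow, pow_mul])
    exact e ▸ mul_mem (pow_mem h.gW_mem _) (mul_mem (pow_mem h.gA_mem _) (pow_mem h.gB_mem _))
  · simp only [Set.insert_subset_iff, Set.singleton_subset_iff, SetLike.mem_coe]
    exact ⟨hAB _ (Or.inl rfl), hAB _ (Or.inr rfl)⟩

/-- The isolated case. -/
theorem le_normalizer_of_isolated [Fintype F] (h2 : (2 : F) ≠ 0) {M : Subgroup (GL (Fin 3) F)}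
    (hSL : M ≤ Geo.specialLinear (Fin 3) F) (hirr : Irr M) (hA : h.gA ∈ M) (hB : gB ∈ M)
    (hQ : h.gQ 0 ∈ M)
    (hiso : ∀ v ∈ M, v * gZ = gZ * v → v * v = 1 → v ≠ 1 → v = gZ) :
    M ≤ Geo.subgroupNormalizer (stR h) := by
  have hn3 : (Fintype.card (Fin 3)).Prime := by simpa using Nat.prime_three
  have hz1 : (gZ : GL (Fin 3) F) ≠ 1 := (h.quat h2).z1
  have hzM : gZ ∈ M := h.gQ_sq 0 ▸ mul_mem hQ hQ
  let z : M := ⟨gZ, hzM⟩
  have hz : orderOf z = 2 := orderOf_eq_prime (Subtype.ext (by simpa [pow_two, z] using gZ_sq))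
    fun e => hz1 (congrArg Subtype.val e)
  have hzi : (gZ : GL (Fin 3) F)⁻¹ = gZ := inv_eq_of_mul_eq_one_right gZ_sq
  obtain ⟨N₀, hN₀, hodd, hcom⟩ := ZStar.zStar hz (PSp43Rec57.oddComm_of_isolated hz fun g hg => by
    refine Subtype.ext (hiso _ (g * z * g⁻¹).2 ?_ ?_ ?_)
    · have := congrArg Subtype.val hg.eq.symm
      simpa [z] using this
    · have e : (g * z * g⁻¹) * (g * z * g⁻¹) = 1 := by
        rw [show g * z * g⁻¹ * (g * z * g⁻¹) = g * (z * z) * g⁻¹ by group,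
          show z * z = 1 from Subtype.ext gZ_sq, mul_one, mul_inv_cancel]
      exact congrArg Subtype.val e
    · intro e
      have e' : g * z * g⁻¹ = 1 := Subtype.ext e
      rw [conj_eq_one_iff] at e'
      exact hz1 (congrArg Subtype.val e'))
  let N : Subgroup (GL (Fin 3) F) := N₀.map M.subtype
  have hNM : N ≤ M := Subgroup.map_subtype_le _
  have hNn : NormalIn N M := by
    rintro g hg _ ⟨x, hx, rfl⟩
    exact ⟨⟨g, hg⟩ * x * ⟨g, hg⟩⁻¹, hN₀.conj_mem x hx _, rfl⟩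
  have hNodd : Odd (Nat.card N) := by
    rwa [Subgroup.card_map_of_injective M.subtype_injective]
  have hAN : h.gA ∈ N := by
    refine ⟨z * ⟨h.gA, hA⟩ * z⁻¹ * ⟨h.gA, hA⟩⁻¹, hcom _, ?_⟩
    show gZ * h.gA * gZ⁻¹ * h.gA⁻¹ = h.gA
    rw [hzi, h.gZ_A, ← _root_.mul_inv_rev]
    exact inv_eq_of_mul_eq_one_right (by rw [← pow_three', h.gA_cube])
  obtain ⟨L, hLmin⟩ := exists_minimal_of_wellFoundedLT
    (fun L : Subgroup (GL (Fin 3) F) => L ≤ N ∧ NormalIn L M ∧ ¬ L ≤ Geo.scalars (Fin 3) F)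
    ⟨N, le_rfl, hNn, fun e => gA_not_scalar h (e hAN)⟩
  obtain ⟨hLN, hLn, hLs⟩ := hLmin.prop
  have hcl : ⁅L, L⁆ ≤ Geo.scalars (Fin 3) F := by
    by_contra hcs
    have he : L ≤ ⁅L, L⁆ := hLmin.le_of_le ⟨(commutator_le_self L).trans hLN, hLn.commutator, hcs⟩
      (commutator_le_self L)
    haveI : Group.IsSolvable L := PF14.feitThompson L (hNodd.of_dvd_nat (Subgroup.card_dvd_of_le hLN))
    haveI : Nontrivial L := (Subgroup.nontrivial_iff_ne_bot L).mpr fun e => hLs (e ▸ bot_le)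
    have hlt := Group.IsSolvable.commutator_lt_top_of_nontrivial L
    refine hlt.ne (top_le_iff.mp fun a _ => ?_)
    have ha : (a : GL (Fin 3) F) ∈ (_root_.commutator L).map L.subtype := by
      rw [Subgroup.map_subtype_commutator]; exact he a.2
    obtain ⟨b, hb, hba⟩ := ha
    exact (Subtype.ext hba : b = a) ▸ hb
  have hgen : ∀ g : GL (Fin 3) F, g = h.gA ∨ g = gB ∨ g = h.gQ 0 → ∀ x ∈ L, g * x * g⁻¹ ∈ L := by
    rintro g (rfl | rfl | rfl) <;> apply hLn <;> assumption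
  have hnc := h.not_comm hgen hLs
  have hLirr : Irr L := (irr_or_diag hn3 hLn hirr).resolve_right fun d => hnc d.comm
  have hL : ClassTwo L := ⟨hnc, hcl, hLN.trans (hNM.trans hSL), absIrr_of_irr hn3 hLirr hnc⟩
  have hLR := h.eq_stR hL hgen
  intro g hg
  refine h.mem_normalizer ?_ ?_ <;> rw [← hLR]
  · exact hLn g hg _ (hLR.symm ▸ h.gA_mem)
  · exact hLn g hg _ (hLR.symm ▸ h.gB_mem)

end CubeRoot

end Cfsg.Agent.SL3Geo34
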