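import Cfsg.Agent.SL3Geo34.Frame
import Mathlib.Algebra.CharP.Defs

/-!
Over any field: matrices satisfying the relations of the standard generators, and the two equations that have no
integral solution (helper34, for S5774).
-/

set_option autoImplicit false

namespace Cfsg.Agent.SL3Geo34

open Matrix
open scoped MatrixGroups

variable {K : Type*} [Field K] {ω : K}

namespace CubeRoot

variable (h : CubeRoot ω)
include h

theorem eq_smul_one {X : Matrix (Fin 3) (Fin 3) K} (hA : X * stA ω = stA ω * X)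
    (hB : X * stB = stB * X) : ∃ c : K, X = c • (1 : Matrix (Fin 3) (Fin 3) K) := by
  have hr := h.rel
  have h3 := h.three
  have ea := fun i j => congrArg (fun M : Matrix (Fin 3) (Fin 3) K => M i j) hA
  have eb := fun i j => congrArg (fun M : Matrix (Fin 3) (Fin 3) K => M i j) hB
  have a01 := ea 0 1
  have a02 := ea 0 2
  have a12 := ea 1 2
  have b00 := eb 0 0
  have b01 := eb 0 1
  have b02 := eb 0 2
  have b10 := eb 1 0
  have b11 := eb 1 1
  have b12 := eb 1 2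
  have b20 := eb 2 0
  have b21 := eb 2 1
  have b22 := eb 2 2
  simp [stA, stB, Matrix.mul_apply, Fin.sum_univ_three] at a01 a02 a12 b00 b01 b02 b10 b11 b12 b20 b21 b22
  have hw : ω ≠ 1 := h.ne_one
  refine ⟨X 0 0, ?_⟩
  ext i j; fin_cases i <;> fin_cases j <;> simp <;> grind

theorem eq_smul_stS {X : Matrix (Fin 3) (Fin 3) K} (hA : X * stA ω = stA ω ^ 2 * X)
    (hB : X * stB = stB ^ 2 * X) : ∃ c : K, X = c • stS := by
  have e1 : stS * stA ω ^ 2 = stA ω * (stS : Matrix (Fin 3) (Fin 3) K) := by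
    rw [← h.rel_SA, ← mul_assoc, ← mul_assoc, sq_S, one_mul]
  have e2 : stS * stB ^ 2 = stB * (stS : Matrix (Fin 3) (Fin 3) K) := by
    rw [← rel_SB, ← mul_assoc, ← mul_assoc, sq_S, one_mul]
  obtain ⟨c, hc⟩ := h.eq_smul_one (X := stS * X)
    (by rw [mul_assoc, hA, ← mul_assoc, e1, mul_assoc]) (by rw [mul_assoc, hB, ← mul_assoc, e2, mul_assoc])
  refine ⟨c, ?_⟩
  have := congrArg (stS * ·) hc
  simpa [← mul_assoc, sq_S] using this

theorem eq_smul_stPhi (k : Fin 3) {X : Matrix (Fin 3) (Fin 3) K}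
    (hA : X * stA ω = ω ^ (k : ℕ) • (stB ^ 2 * stA ω ^ (k : ℕ) * X))
    (hB : X * stB = ω ^ (expB k).1 • (stB ^ (expB k).2.1 * stA ω ^ (expB k).2.2 * X)) :
    ∃ c : K, X = c • stPhi ω k := by
  set q : Matrix (Fin 3) (Fin 3) K := (((h.gQ k)⁻¹ : GL (Fin 3) K) : Matrix (Fin 3) (Fin 3) K) with hq
  have hc : ∀ {R T : Matrix (Fin 3) (Fin 3) K}, stPhi ω k * T = R * stPhi ω k → X * T = R * X →
      q * X * T = T * (q * X) := by
    intro R T h1 h2
    have h3 : q * R = T * q := by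
      have h4 : (h.gQ k : Matrix (Fin 3) (Fin 3) K) * T = R * h.gQ k := by
        rw [h.gQ_val, Matrix.smul_mul, Matrix.mul_smul, h1]
      calc q * R = q * (R * (h.gQ k : Matrix (Fin 3) (Fin 3) K)) * q := by
            rw [mul_assoc, mul_assoc R, hq, Units.mul_inv, mul_one]
        _ = T * q := by rw [← h4, ← mul_assoc q, hq, Units.inv_mul, one_mul]
    rw [mul_assoc, h2, ← mul_assoc, h3, mul_assoc]
  obtain ⟨c, hc'⟩ := h.eq_smul_one
    (hc (R := ω ^ (k : ℕ) • (stB ^ 2 * stA ω ^ (k : ℕ))) (by rw [Matrix.smul_mul, h.rel_phiA k])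
      (by rw [Matrix.smul_mul, hA]))
    (hc (R := ω ^ (expB k).1 • (stB ^ (expB k).2.1 * stA ω ^ (expB k).2.2))
      (by rw [Matrix.smul_mul, h.rel_phiB k]) (by rw [Matrix.smul_mul, hB]))
  refine ⟨c * (2 * ω + 1)⁻¹, ?_⟩
  have := congrArg ((h.gQ k : Matrix (Fin 3) (Fin 3) K) * ·) hc'
  rw [← mul_assoc, hq, Units.mul_inv, one_mul, Matrix.mul_smul, mul_one, h.gQ_val, smul_smul] at this
  exact this

theorem pauli [CharZero K] {X : Matrix (Fin 3) (Fin 3) K} (hS : X * stS = stS * X)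
    (h0 : X * stPhi ω 0 = stPhi ω 0 * X) (h1 : X * stPhi ω 1 = stPhi ω 1 * X)
    (h2 : X * X = -stS) : 4 * X 1 1 ^ 4 = -1 := by
  have hr := h.rel
  have ec := fun {M N : Matrix (Fin 3) (Fin 3) K} (e : M = N) (i j : Fin 3) =>
    congrArg (fun M : Matrix (Fin 3) (Fin 3) K => M i j) e
  have s01 := ec hS 0 1
  have s10 := ec hS 1 0
  have s11 := ec hS 1 1
  have s12 := ec hS 1 2
  have p00 := ec h0 0 0
  have p01 := ec h0 0 1
  have q00 := ec h1 0 0
  have q01 := ec h1 0 1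
  have t00 := ec h2 0 0
  have t11 := ec h2 1 1
  have t12 := ec h2 1 2
  simp [stS, stPhi, Matrix.mul_apply, Fin.sum_univ_three] at s01 s10 s11 s12 p00 p01 q00 q01 t00 t11 t12
  have hb : X 0 1 = 0 := by grind
  have hc : X 1 0 = 0 := by grind
  have ha : X 0 0 = X 1 1 + X 1 2 := by grind
  have hde : 2 * (X 1 1 * X 1 2) = -1 := by grind
  have hsq : X 1 1 ^ 2 + X 1 2 ^ 2 = 0 := by grind
  linear_combination (4 * X 1 1 ^ 2) * hsq - (2 * (X 1 1 * X 1 2) - 1) * hde

theorem dcase [CharZero K] (k : Fin 3) {X : Matrix (Fin 3) (Fin 3) K} {c : K}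
    (hS : X * stS = stS * X) (hk : X * stPhi ω k = stPhi ω k * X) (hc : 3 * c ^ 2 = -1)
    (h2 : X * X = c • stPhi ω k) : 64 * (3 * X 0 1) ^ 12 = 729 := by
  have hr := h.rel
  have hw := h.cube
  have ec := fun {M N : Matrix (Fin 3) (Fin 3) K} (e : M = N) (i j : Fin 3) =>
    congrArg (fun M : Matrix (Fin 3) (Fin 3) K => M i j) e
  have s01 := ec hS 0 1
  have s10 := ec hS 1 0
  have s11 := ec hS 1 1
  have s12 := ec hS 1 2
  have p00 := ec hk 0 0
  have p01 := ec hk 0 1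
  have t00 := ec h2 0 0
  have t01 := ec h2 0 1
  -- `g` is the coefficient of the even block of the axis
  have key : ∀ g a : K, g = X 0 1 * ω ^ (k : ℕ) → a = X 0 0 - g →
      a ^ 2 + 3 * g ^ 2 = 0 ∧ 2 * a * g = c := by
    intro g a hg ha
    fin_cases k <;>
      simp [stS, stPhi, Matrix.mul_apply, Fin.sum_univ_three] at s01 s10 s11 s12 p00 p01 t00 t01 hg <;>
      subst hg ha <;> constructor <;> grind
  obtain ⟨e1, e2⟩ := key _ _ rfl rfl
  generalize hg : X 0 1 * ω ^ (k : ℕ) = g at e1 e2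
  generalize X 0 0 - g = a at e1 e2
  subst e2
  have h4 : 36 * g ^ 4 = 1 := by linear_combination -hc + (12 * g ^ 2) * e1
  have h12 : g ^ 12 = X 0 1 ^ 12 := by
    have hw12 : (ω ^ (k : ℕ)) ^ 12 = 1 := by
      rw [← pow_mul, show (k : ℕ) * 12 = 3 * (4 * k) by ring, pow_mul, hw, one_pow]
    rw [← hg, mul_pow, hw12, mul_one]
  have e5 : (36 * g ^ 4) ^ 3 = 1 := by rw [h4, one_pow]
  linear_combination -(64 * 3 ^ 12) * h12 + 729 * e5

end CubeRoot

end Cfsg.Agent.SL3Geo34
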